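import Cfsg.Agent.Lib.QuadPair.Core
import Cfsg.Agent.S2010
import Cfsg.Agent.Lib.Offender.SymThree
import Cfsg.Agent.Lib.LocalChar.Core

/-!
Thompson factorisation at `2` for constrained `S₄`-free groups with Sylow `2`-subgroups of class two.
-/

set_option autoImplicit false
open Subgroup
open scoped commutatorElement

namespace Cfsg.Agent.Lib.QuadPair

universe v
variable {G : Type v} [Group G] [Finite G]

/-- A plane with two transvections gives a section isomorphic to `S₄`. -/
theorem involves_of_plane {c b w y : G} (hwy : w * y = y * w) (hw2 : w ^ 2 = 1) (hy2 : y ^ 2 = 1)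
    (hw : w ≠ 1) (hy : y ≠ 1) (hne : y ≠ w) (hcw : c * w * c⁻¹ = w) (hcy : c * y * c⁻¹ = w * y)
    (hbw : b * w * b⁻¹ = w * y) (hby : b * y * b⁻¹ = y) :
    Cfsg.Involves (Equiv.Perm (Fin 4)) G := by
  classical
  set W : Subgroup G := closure {w, y} with hWdef
  have hW : Cfsg.IsElementaryAbelian 2 W := by
    refine Lib.Thompson.isElementaryAbelian_closure ?_ ?_
    · rintro x (rfl | rfl) z (rfl | rfl)
      · rfl
      · exact hwy
      · exact hwy.symm
      · rfl
    · rintro x (rfl | rfl)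
      · exact hw2
      · exact hy2
  have hw' : w * w = 1 := by rw [← pow_two]; exact hw2
  have hy' : y * y = 1 := by rw [← pow_two]; exact hy2
  have hmem : ∀ x ∈ W, x = 1 ∨ x = w ∨ x = y ∨ x = w * y := by
    intro x hx
    induction hx using closure_induction with
    | mem z hz => rcases hz with rfl | rfl <;> simp
    | one => simp
    | mul a b _ _ ha hb =>
      have e1 : w * (w * y) = y := by rw [← mul_assoc, hw', one_mul]
      have e2 : y * (w * y) = w := by rw [hwy, ← mul_assoc, hy', one_mul]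
      have e3 : w * y * w = y := by rw [hwy, mul_assoc, hw', mul_one]
      have e4 : w * y * y = w := by rw [mul_assoc, hy', mul_one]
      have e5 : w * y * (w * y) = 1 := by rw [mul_assoc, e2, hw']
      rcases ha with rfl | rfl | rfl | rfl <;> rcases hb with rfl | rfl | rfl | rfl <;>
        simp [hw', hy', e1, e2, e3, e4, e5, hwy.symm]
    | inv a _ ha =>
      have ew : w⁻¹ = w := inv_eq_of_mul_eq_one_right hw'
      have ey : y⁻¹ = y := inv_eq_of_mul_eq_one_right hy'
      rcases ha with rfl | rfl | rfl | rfl <;> simp [ew, ey, hwy.symm]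
  have hwW : w ∈ W := subset_closure (by simp)
  have hyW : y ∈ W := subset_closure (by simp)
  set e : Fin 3 → G := ![w, y, w * y] with he
  have hwy1 : w * y ≠ 1 := fun h => hne (by
    have := congrArg (fun z => w * z) h
    simpa [← mul_assoc, hw'] using this)
  have heinj : Function.Injective e := by
    have h1 : w * y ≠ w := fun h => hy (by simpa using h)
    have h2 : w * y ≠ y := fun h => hw (by simpa using h)
    intro i j h
    fin_cases i <;> fin_cases j <;> simp [he] at h ⊢ <;>
      first | exact hne h | exact hne h.symm | exact h1 h | exact h1 h.symm | exact h2 h | exact h2 h.symm |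
        exact hy h | exact hw h
  have heW : ∀ i, e i ∈ W ∧ e i ≠ 1 := fun i => by
    fin_cases i
    · exact ⟨hwW, hw⟩
    · exact ⟨hyW, hy⟩
    · exact ⟨mul_mem hwW hyW, hwy1⟩
  have hesurj : ∀ x ∈ W, x ≠ 1 → ∃ i, e i = x := fun x hx hx1 => by
    rcases hmem x hx with h | h | h | h
    · exact absurd h hx1
    · exact ⟨0, h.symm⟩
    · exact ⟨1, h.symm⟩
    · exact ⟨2, h.symm⟩
  have hcard : Nat.card W = 2 ^ 2 := by
    let g : Option (Fin 3) → W := fun o => o.elim 1 fun i => ⟨e i, (heW i).1⟩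
    have hg : Function.Bijective g := by
      refine ⟨?_, ?_⟩
      · rintro (_ | i) (_ | j) h
        · rfl
        · exact absurd (congrArg Subtype.val h).symm (heW j).2
        · exact absurd (congrArg Subtype.val h) (heW i).2
        · exact congrArg some (heinj (congrArg Subtype.val h))
      · rintro ⟨x, hx⟩
        by_cases h1 : x = 1
        · exact ⟨none, Subtype.ext h1.symm⟩
        · obtain ⟨i, hi⟩ := hesurj x hx h1
          exact ⟨some i, Subtype.ext hi⟩
    rw [← Nat.card_eq_of_bijective g hg]; simp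
  set D : Subgroup G := closure {c, b} with hD
  have hDW : D ≤ normalizer (W : Set G) := by
    rw [hD, closure_le]
    rintro x (rfl | rfl) <;>
    · refine mem_normalizer_iff.2 fun z => ?_
      have hle : W.map (MulAut.conj x).toMonoidHom ≤ W := by
        rw [hWdef, MonoidHom.map_closure, closure_le]
        rintro _ ⟨u, (rfl | rfl), rfl⟩
        · show x * u * x⁻¹ ∈ W
          simp only [hcw, hbw]; first | exact hwW | exact hyW | exact mul_mem hwW hyW
        · show x * u * x⁻¹ ∈ W
          simp only [hcy, hby]; first | exact hwW | exact hyW | exact mul_mem hwW hyW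
      have heq := eq_of_le_of_card_ge hle (card_map_of_injective (MulAut.conj x).injective).ge
      constructor
      · intro hz; exact heq ▸ ⟨z, hz, rfl⟩
      · intro hz
        rw [← heq] at hz
        obtain ⟨u, hu, hue⟩ := hz
        have : u = z := (MulAut.conj x).injective hue
        exact this ▸ hu
  have hconj : ∀ d ∈ D, ∀ i, ∃ j, e j = d * e i * d⁻¹ := fun d hd i =>
    hesurj _ ((mem_normalizer_iff.1 (hDW hd) _).1 (heW i).1) (fun h => (heW i).2 (conj_eq_one_iff.1 h))
  choose σ hσ using hconj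
  have hσinj : ∀ (d : D), Function.Injective (σ d d.2) := fun d i j h => by
    have h1 := congrArg e h
    rw [hσ, hσ] at h1
    exact heinj (mul_left_cancel (mul_right_cancel h1))
  let f : D →* Equiv.Perm (Fin 3) := MonoidHom.mk'
    (fun d => Equiv.ofBijective (σ d d.2) (Finite.injective_iff_bijective.1 (hσinj d))) fun d d' => Equiv.ext fun i => by
      apply heinj
      show e (σ _ (d * d').2 i) = e (σ d d.2 (σ d' d'.2 i))
      rw [hσ, hσ, hσ, Subgroup.coe_mul]; group
  have hf : ∀ (d : D) i j, (d : G) * e i * (d : G)⁻¹ = e j → f d i = j := fun d i j h =>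
    heinj ((hσ d d.2 i).trans h)
  have hc : c ∈ D := subset_closure (by simp)
  have hb : b ∈ D := subset_closure (by simp)
  have hcwy : c * (w * y) * c⁻¹ = y := by
    rw [show c * (w * y) * c⁻¹ = c * w * c⁻¹ * (c * y * c⁻¹) by group, hcw, hcy, ← mul_assoc, hw', one_mul]
  have hbwy : b * (w * y) * b⁻¹ = w := by
    rw [show b * (w * y) * b⁻¹ = b * w * b⁻¹ * (b * y * b⁻¹) by group, hbw, hby, mul_assoc, hy', mul_one]
  have hfc : f ⟨c, hc⟩ = Equiv.swap 1 2 := Equiv.ext fun i => by
    fin_cases i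
    · exact hf _ 0 0 hcw
    · exact hf _ 1 2 hcy
    · exact hf _ 2 1 hcwy
  have hfb : f ⟨b, hb⟩ = Equiv.swap 0 2 := Equiv.ext fun i => by
    fin_cases i
    · exact hf _ 0 2 hbw
    · exact hf _ 1 1 hby
    · exact hf _ 2 0 hbwy
  have hfs : Function.Surjective f := by
    intro π
    have key : ∀ π : Equiv.Perm (Fin 3), π = 1 ∨ π = Equiv.swap 1 2 ∨ π = Equiv.swap 0 2 ∨
        π = Equiv.swap 1 2 * Equiv.swap 0 2 ∨ π = Equiv.swap 0 2 * Equiv.swap 1 2 ∨
        π = Equiv.swap 1 2 * Equiv.swap 0 2 * Equiv.swap 1 2 := by decide +kernel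
    rcases key π with h | h | h | h | h | h
    · exact ⟨1, by rw [map_one, h]⟩
    · exact ⟨_, hfc.trans h.symm⟩
    · exact ⟨_, hfb.trans h.symm⟩
    · exact ⟨⟨c, hc⟩ * ⟨b, hb⟩, by rw [map_mul, hfc, hfb, h]⟩
    · exact ⟨⟨b, hb⟩ * ⟨c, hc⟩, by rw [map_mul, hfc, hfb, h]⟩
    · exact ⟨⟨c, hc⟩ * ⟨b, hb⟩ * ⟨c, hc⟩, by rw [map_mul, map_mul, hfc, hfb, h]⟩
  refine Cfsg.Agent.S2010.involves_S4_of_plane hW hcard hDW (Lib.Offender.slTwoEquiv.symm.toMonoidHom.comp f)
    (Lib.Offender.slTwoEquiv.symm.surjective.comp hfs) fun d => ?_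
  show Lib.Offender.slTwoEquiv.symm (f d) = 1 ↔ _
  rw [MulEquiv.map_eq_one_iff, mem_centralizer_iff]
  constructor
  · intro hd z hz
    by_cases hz1 : z = 1
    · simp [hz1]
    obtain ⟨i, rfl⟩ := hesurj z hz hz1
    have h1 : σ d d.2 i = i := congrArg (fun π : Equiv.Perm (Fin 3) => π i) hd
    have h2 := hσ d d.2 i
    rw [h1] at h2
    exact eq_mul_inv_iff_mul_eq.1 h2
  · intro hd
    exact Equiv.ext fun i => hf d i i (by rw [← hd (e i) (heW i).1, mul_inv_cancel_right])

/-- Failure of the factorisation gives a section `S₄`. -/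
theorem factorizable_of_class_two (hcons : centralizer (Cfsg.pCore 2 G : Set G) ≤ Cfsg.pCore 2 G)
    (hS4 : ¬ Cfsg.Involves (Equiv.Perm (Fin 4)) G) (S : Sylow 2 G)
    (hcl : Subgroup.lowerCentralSeries (S : Subgroup G) 2 = ⊥) (g : G) :
    ∃ c ∈ centralizer (Cfsg.omegaOne 2 ((S : Subgroup G) ⊓ centralizer ((S : Subgroup G) : Set G)) : Set G),
      ∃ m ∈ normalizer (Cfsg.thompsonSubgroupOf 2 (S : Subgroup G) : Set G), g = c * m := by
  classical
  haveI : Fact (Nat.Prime 2) := ⟨Nat.prime_two⟩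
  open Cfsg.Agent.Lib.LocalChar in
  set Q := Cfsg.pCore 2 G with hQ
  haveI hQn : Q.Normal := Lib.LocalChar.pCore_normal
  have hQS : ∀ T : Sylow 2 G, Q ≤ (T : Subgroup G) := fun T => Lib.LocalChar.pCore_le_sylow T
  set Ω := Cfsg.omegaOne 2 ((S : Subgroup G) ⊓ centralizer ((S : Subgroup G) : Set G)) with hΩ
  set Z : Subgroup G := Q ⊓ centralizer (Q : Set G) with hZ
  have hΩS : ∀ x ∈ Ω, x ∈ (S : Subgroup G) ∧ ∀ s ∈ (S : Subgroup G), s * x = x * s := by
    have h : Ω ≤ (S : Subgroup G) ⊓ centralizer ((S : Subgroup G) : Set G) :=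
      (closure_le _).2 fun x hx => hx.1
    exact fun x hx => ⟨(h hx).1, mem_centralizer_iff.1 (h hx).2⟩
  have hΩZ : Ω ≤ Z := fun x hx => by
    have h : x ∈ centralizer (Q : Set G) := mem_centralizer_iff.2 fun q hq => (hΩS x hx).2 q (hQS S hq)
    exact ⟨hcons h, h⟩
  set V : Subgroup G := normalClosure {x : G | x ∈ Ω ∧ x ^ 2 = 1} with hV
  haveI hZn : Z.Normal := inferInstance
  have hVZ : V ≤ Z := normalClosure_le_normal fun x hx => hΩZ hx.1
  have hΩV : Ω ≤ V := by
    rw [hΩ, Cfsg.omegaOne, closure_le]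
    exact fun x hx => subset_normalClosure ⟨subset_closure hx, hx.2⟩
  have hZc : ∀ a ∈ Z, ∀ a' ∈ Z, a * a' = a' * a := fun a ha a' ha' => mem_centralizer_iff.1 ha'.2 a ha.1
  have hV2 : ∀ v ∈ V, v ^ 2 = 1 := by
    intro v hv
    suffices h : v ∈ Z ∧ v ^ 2 = 1 from h.2
    induction hv using closure_induction with
    | mem z hz =>
      obtain ⟨x, hx, hc⟩ := Group.mem_conjugatesOfSet_iff.1 hz
      obtain ⟨k, rfl⟩ := isConj_iff.1 hc
      exact ⟨hZn.conj_mem x (hΩZ hx.1) k, by rw [conj_pow, hx.2, mul_one, mul_inv_cancel]⟩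
    | one => exact ⟨Z.one_mem, one_pow 2⟩
    | mul a a' _ _ ha ha' =>
      exact ⟨mul_mem ha.1 ha'.1, by rw [(show Commute a a' from hZc a ha.1 a' ha'.1).mul_pow, ha.2, ha'.2, one_mul]⟩
    | inv a _ ha => exact ⟨inv_mem ha.1, by rw [inv_pow, ha.2, inv_one]⟩
  letI : CommGroup ↥V := { (inferInstance : Group ↥V) with
    mul_comm := fun a a' => Subtype.ext (hZc _ (hVZ a.2) _ (hVZ a'.2)) }
  letI : DistribMulAction G (Additive ↥V) :=
    { smul := fun k v => Additive.ofMul ⟨k * (v.toMul : G) * k⁻¹, normalClosure_normal.conj_mem _ v.toMul.2 k⟩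
      one_smul := fun v => Additive.toMul.injective (Subtype.ext (by
        show (1 : G) * (v.toMul : G) * (1 : G)⁻¹ = _; simp))
      mul_smul := fun k k' v => Additive.toMul.injective (Subtype.ext (by
        show k * k' * (v.toMul : G) * (k * k')⁻¹ = k * (k' * (v.toMul : G) * k'⁻¹) * k⁻¹; group))
      smul_zero := fun k => Additive.toMul.injective (Subtype.ext (by
        show k * (1 : G) * k⁻¹ = 1; simp))
      smul_add := fun k v v' => Additive.toMul.injective (Subtype.ext (by
        show k * ((v.toMul : G) * (v'.toMul : G)) * k⁻¹ = k * (v.toMul : G) * k⁻¹ * (k * (v'.toMul : G) * k⁻¹)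
        group)) }
  have hval : ∀ (k : G) (v : Additive ↥V), (((k • v).toMul : ↥V) : G) = k * (v.toMul : G) * k⁻¹ := fun _ _ => rfl
  have h2 : ∀ v : Additive ↥V, v + v = 0 := fun v => Additive.toMul.injective (Subtype.ext (by
    show (v.toMul : G) * (v.toMul : G) = 1
    rw [← pow_two]; exact hV2 _ v.toMul.2))
  have hVS : ∀ T : Sylow 2 G, V ≤ (T : Subgroup G) := fun T x hx => hQS T (hVZ hx).1
  have hclT : ∀ T : Sylow 2 G, ⁅⁅(T : Subgroup G), (T : Subgroup G)⁆, (T : Subgroup G)⁆ = ⊥ := by
    intro T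
    obtain ⟨k, rfl⟩ := MulAction.exists_smul_eq G S T
    show ⁅⁅(S : Subgroup G).map (MulAut.conj k).toMonoidHom, (S : Subgroup G).map (MulAut.conj k).toMonoidHom⁆,
      (S : Subgroup G).map (MulAut.conj k).toMonoidHom⁆ = ⊥
    rw [← map_commutator, ← map_commutator, show ⁅⁅(S : Subgroup G), (S : Subgroup G)⁆, (S : Subgroup G)⁆ = ⊥ from hcl,
      Subgroup.map_bot]
  have hP : Quadratic G (Additive ↥V) := by
    intro T hT s hs t ht v
    obtain ⟨T', hT'⟩ := hT.exists_le_sylow
    apply Additive.toMul.injective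
    apply Subtype.ext
    set x : G := (v.toMul : G)
    show s * (t * x * t⁻¹ * x) * s⁻¹ = t * x * t⁻¹ * x
    have hx : x ∈ V := v.toMul.2
    have hx' : x⁻¹ = x := inv_eq_of_mul_eq_one_right (by rw [← pow_two]; exact hV2 x hx)
    have hcm : ⁅t, x⁆ ∈ ⁅(T' : Subgroup G), (T' : Subgroup G)⁆ := commutator_mem_commutator (hT' ht) (hVS T' hx)
    have h3 : ⁅⁅t, x⁆, s⁆ = 1 := mem_bot.1 (hclT T' ▸ commutator_mem_commutator hcm (hT' hs))
    rw [commutatorElement_eq_one_iff_mul_comm, commutatorElement_def, hx'] at h3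
    rw [← h3, mul_inv_cancel_right]
  set C := centralizer (V : Set G) with hC
  haveI hVn : V.Normal := normalClosure_normal
  haveI hCn : C.Normal := inferInstance
  have hCΩ : C ≤ centralizer (Ω : Set G) := centralizer_le (SetLike.coe_subset_coe.2 hΩV)
  by_cases hJ : ∀ A ∈ Cfsg.maxElementaryAbelianSubgroups 2 (S : Subgroup G), A.map (S : Subgroup G).subtype ≤ C
  · have e : Cfsg.thompsonSubgroupOf 2 (S : Subgroup G) = Cfsg.thompsonSubgroupOf 2 ((S : Subgroup G) ⊓ C) :=
      Lib.FPF.thompsonSubgroupOf_eq_of_forall_le inf_le_left fun A hA => le_inf (map_subtype_le A) (hJ A hA)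
    have hSC := Lib.LocalChar.IsSylowIn.inf_subnormal (p := 2) S hCn.isSubnormal
    have hF := hSC.frattini' le_top (normalizer_eq_top_iff.2 hCn).ge
    rw [top_inf_eq] at hF
    obtain ⟨c, hc, m, hm, e'⟩ := mem_sup_of_normal_left.1 (hF.symm ▸ mem_top g)
    exact ⟨c, hCΩ hc, m, e ▸ Lib.FPF.normalizer_le_normalizer_thompson _ hm, e'.symm⟩
  exfalso
  push Not at hJ
  obtain ⟨A₀, hA₀, hA₀C⟩ := hJ
  set A := A₀.map (S : Subgroup G).subtype with hA
  have hAe : Cfsg.IsElementaryAbelian 2 A := Lib.Thompson.isElementaryAbelian_map _ hA₀.1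
  have hAS : A ≤ (S : Subgroup G) := map_subtype_le A₀
  have hAp : IsPGroup 2 A := S.2.to_le hAS
  have hmax : ∀ E : Subgroup G, Cfsg.IsElementaryAbelian 2 E → E ≤ (S : Subgroup G) → Nat.card E ≤ Nat.card A := by
    intro E hE hES
    rw [hA, card_map_of_injective (S : Subgroup G).subtype_injective,
      ← Nat.card_congr (subgroupOfEquivOfLe hES).toEquiv]
    exact hA₀.2 _ (Lib.Thompson.isElementaryAbelian_comap (S : Subgroup G).subtype_injective hE)
  let F : Subgroup G → Subgroup G := fun D => V ⊓ centralizer (D : Set G)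
  have hFcard : ∀ D : Subgroup G, Nat.card (fix D (⊤ : AddSubgroup (Additive ↥V))) = Nat.card (F D) := by
    intro D
    refine Nat.card_congr
      { toFun := fun v => ⟨((v : Additive ↥V).toMul : G), (v : Additive ↥V).toMul.2, mem_centralizer_iff.2 fun d hd => ?_⟩
        invFun := fun x => ⟨Additive.ofMul ⟨x, x.2.1⟩, trivial, fun d hd => ?_⟩
        left_inv := fun v => rfl
        right_inv := fun x => rfl }
    · exact (mul_inv_eq_iff_eq_mul.1 ((hval d _).symm.trans (congrArg (fun z => ((Additive.toMul z : ↥V) : G)) (v.2.2 d hd))))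
    · exact Additive.toMul.injective (Subtype.ext (mul_inv_eq_iff_eq_mul.2 (mem_centralizer_iff.1 x.2.2 d hd)))
  have hbest : Best A (⊤ : AddSubgroup (Additive ↥V)) := by
    intro D hD
    rw [hFcard, hFcard]
    have hFe : Cfsg.IsElementaryAbelian 2 (F D) :=
      ⟨⟨⟨fun a a' => Subtype.ext (hZc _ (hVZ a.2.1) _ (hVZ a'.2.1))⟩⟩, fun a ha => hV2 a ha.1⟩
    have hDe := Lib.Thompson.isElementaryAbelian_le hAe hD
    have hsup := hmax (D ⊔ F D) (Lib.Thompson.isElementaryAbelian_sup hDe hFe
      fun a ha x hx => mem_centralizer_iff.1 hx.2 a ha) (sup_le (hD.trans hAS) (inf_le_left.trans (hVS S)))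
    have hnz : D ≤ normalizer (F D : Set G) := fun d hd => mem_normalizer_iff.2 fun x => by
      constructor
      · intro hx
        rwa [show d * x * d⁻¹ = x by rw [mem_centralizer_iff.1 hx.2 d hd, mul_inv_cancel_right]]
      · intro hx
        have h' := congrArg (fun z => d⁻¹ * z) (mem_centralizer_iff.1 hx.2 d hd)
        have : d * x * d⁻¹ = x := by simpa [mul_assoc] using h'
        rwa [this] at hx
    have h := Lib.Coprime.card_sup_mul_card_inf_of_le_normalizer (A := D) (N := F D) hnz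
    have hle : D ⊓ F D ≤ F A := fun x hx => ⟨hx.2.1, mem_centralizer_iff.2 fun a ha =>
      Lib.Thompson.commute_of_elementary hAe ha (hD hx.1)⟩
    rw [← h]
    exact Nat.mul_le_mul hsup (card_le_of_le hle)
  -- some two conjugates of `A` generate a group not acting as a `2`-group
  obtain ⟨k, hk⟩ : ∃ k : G, ¬ Uni (A ⊔ A.map (MulAut.conj k).toMonoidHom) (⊤ : AddSubgroup (Additive ↥V)) := by
    by_contra hcon
    push Not at hcon
    have hpair : ∀ (k k' : G), ∀ a ∈ A, ∀ a' ∈ A, ∀ v : Additive ↥V,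
        (k * a * k⁻¹) • ((k' * a' * k'⁻¹) • v + v) = (k' * a' * k'⁻¹) • v + v := by
      intro k k' a ha a' ha' v
      have h := (hcon (k⁻¹ * k')).quad hP (fun _ _ _ _ => AddSubgroup.mem_top _) a (mem_sup_left ha)
        ((k⁻¹ * k') * a' * (k⁻¹ * k')⁻¹) (mem_sup_right ⟨a', ha', rfl⟩) (k⁻¹ • v) (AddSubgroup.mem_top _)
      set c := (k⁻¹ * k') * a' * (k⁻¹ * k')⁻¹ with hc
      have e2 : (k' * a' * k'⁻¹) • v = k • c • k⁻¹ • v := by
        rw [hc, ← mul_smul, ← mul_smul]; congr 1; group
      have e3 : k⁻¹ • ((k' * a' * k'⁻¹) • v + v) = c • k⁻¹ • v + k⁻¹ • v := by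
        rw [smul_add, e2, inv_smul_smul]
      rw [mul_smul, mul_smul, e3, h, ← e3, smul_inv_smul]
    set N := normalClosure (A : Set G) with hN
    have hgen : ∀ n ∈ N, (∀ k : G, ∀ a ∈ A, ∀ v : Additive ↥V,
        (k * a * k⁻¹) • (n • v + v) = n • v + v) ∧ ∀ v : Additive ↥V, n • n • v = v := by
      intro n hn
      rw [hN, normalClosure, ← mem_toSubmonoid, closure_toSubmonoid_of_finite] at hn
      induction hn using Submonoid.closure_induction with
      | mem z hz =>
        obtain ⟨x, hx, hc⟩ := Group.mem_conjugatesOfSet_iff.1 hz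
        obtain ⟨k', rfl⟩ := isConj_iff.1 hc
        refine ⟨fun k a ha v => hpair k k' a ha x hx v, fun v => ?_⟩
        exact sq_fix h2 hP (hAp.map (MulAut.conj k').toMonoidHom) ⟨x, hx, rfl⟩ v
      | one => exact ⟨fun k a ha v => by rw [one_smul, h2, smul_zero], fun v => by simp⟩
      | mul m m' hm hm' hP1 hP2 =>
        have key : ∀ k : G, ∀ a ∈ A, ∀ v : Additive ↥V,
            (k * a * k⁻¹) • ((m * m') • v + v) = (m * m') • v + v := by
          intro k a ha v
          have e : (m * m') • v + v = (m • m' • v + m' • v) + (m' • v + v) := by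
            rw [mul_smul, ← add_assoc, add_add_self h2]
          rw [e, smul_add, hP1.1 k a ha, hP2.1 k a ha]
        refine ⟨key, fun v => ?_⟩
        -- every generator fixes the displacement, hence so does `m * m'`
        have hfixd : ∀ j ∈ Submonoid.closure (Group.conjugatesOfSet (A : Set G)), j • ((m * m') • v + v) = (m * m') • v + v := by
          intro j hj
          induction hj using Submonoid.closure_induction with
          | mem z hz =>
            obtain ⟨x, hx, hc⟩ := Group.mem_conjugatesOfSet_iff.1 hz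
            obtain ⟨k', rfl⟩ := isConj_iff.1 hc
            exact key k' x hx v
          | one => exact one_smul _ _
          | mul p q _ _ hp hq => rw [mul_smul, hq, hp]
        have h := hfixd (m * m') (mul_mem hm hm')
        rw [smul_add] at h
        have h' := congrArg (fun z => z + (m * m') • v) h
        simp only [add_add_self h2] at h'
        rw [h', add_comm ((m * m') • v) v, add_add_self h2]
    -- the image of `N` is a normal `2`-subgroup
    let f := (MulAction.toPermHom G (Additive ↥V)).rangeRestrict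
    have hfN : IsPGroup 2 (N.map f) := by
      rintro ⟨_, n, hn, rfl⟩
      refine ⟨1, Subtype.ext (Subtype.ext (Equiv.ext fun v => ?_))⟩
      rw [pow_one, pow_two]
      exact (hgen n hn).2 v
    have hs := MonoidHom.rangeRestrict_surjective (MulAction.toPermHom G (Additive ↥V))
    haveI : (N.map f).Normal := normalClosure_normal.map f hs
    have hle : N.map f ≤ (S.mapSurjective hs : Subgroup _) :=
      (Lib.LocalChar.le_pCore inferInstance hfN).trans (Lib.LocalChar.pCore_le_sylow _)
    rw [Sylow.coe_mapSurjective] at hle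
    have hNfix : ∀ n ∈ N, ∀ x ∈ Ω, n * x * n⁻¹ = x := by
      intro n hn x hx
      obtain ⟨s, hs', hse⟩ := hle ⟨n, hn, rfl⟩
      have h := congrArg (fun z => (Subtype.val z : Equiv.Perm _) (Additive.ofMul (⟨x, hΩV hx⟩ : ↥V))) hse
      have h' : s * x * s⁻¹ = n * x * n⁻¹ := congrArg (fun z : Additive ↥V => ((Additive.toMul z : ↥V) : G)) h
      rw [← h', (hΩS x hx).2 s hs', mul_inv_cancel_right]
    haveI hNn : N.Normal := normalClosure_normal
    have hNC : V ≤ centralizer (N : Set G) := by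
      refine normalClosure_le_normal fun x hx => mem_centralizer_iff.2 fun n hn => ?_
      exact mul_inv_eq_iff_eq_mul.1 (hNfix n hn x hx.1)
    exact hA₀C ((le_normalClosure (H := A)).trans (le_centralizer_iff.1 hNC))
  obtain ⟨c, b, w, y, hw, hy, hne, hcw, hcy, hbw, hby⟩ := exists_plane h2 hP ⊤ A (A.map (MulAut.conj k).toMonoidHom)
    hAp (hAp.map _) (fun _ _ _ _ => AddSubgroup.mem_top _) hbest (hbest.conj fun w => ⟨fun _ => AddSubgroup.mem_top _, fun _ => AddSubgroup.mem_top _⟩) hk
  have hG : ∀ {u v : Additive ↥V}, u = v → ((u.toMul : ↥V) : G) = ((v.toMul : ↥V) : G) := fun h => by rw [h]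
  refine hS4 (involves_of_plane (c := c) (b := b) (w := (w.toMul : G)) (y := (y.toMul : G))
    (hZc _ (hVZ w.toMul.2) _ (hVZ y.toMul.2)) (hV2 _ w.toMul.2) (hV2 _ y.toMul.2) ?_ ?_ ?_ (hG hcw) (hG hcy) (hG hbw) (hG hby))
  · exact fun h => hw (Additive.toMul.injective (Subtype.ext h))
  · exact fun h => hy (Additive.toMul.injective (Subtype.ext h))
  · exact fun h => hne (Additive.toMul.injective (Subtype.ext h))

end Cfsg.Agent.Lib.QuadPair
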