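import Cfsg.Agent.Lib.QuadPair.Bound
import Cfsg.Agent.Lib.QuadPair.Thompson
import Cfsg.Agent.Lib.Hall.Solvable

/-!
The image of a group of operators of an elementary abelian subgroup, and the squared bound for it.
-/

set_option autoImplicit false
open Subgroup
open scoped commutatorElement

namespace Cfsg.Agent.Lib.QuadPair

universe v
variable {G : Type v} [Group G] [Finite G]

/-- An elementary abelian subgroup as an additive commutative group. -/
@[reducible] def elemComm {Y : Subgroup G} (hY : Cfsg.IsElementaryAbelian 2 Y) : CommGroup ↥Y :=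
  { (inferInstance : Group ↥Y) with
    mul_comm := fun a b => Subtype.ext (Lib.Thompson.commute_of_elementary hY a.2 b.2) }

/-- Automorphisms act on the additive copy. -/
instance addAct {H : Type*} [Group H] : DistribMulAction (MulAut H) (Additive H) where
  smul f v := Additive.ofMul (f (Additive.toMul v))
  one_smul _ := rfl
  mul_smul _ _ _ := rfl
  smul_zero f := congrArg Additive.ofMul (map_one f)
  smul_add f u v := congrArg Additive.ofMul (map_mul f (Additive.toMul u) (Additive.toMul v))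

/-- Conjugation as automorphisms. -/
def conjAdd (Y : Subgroup G) : ↥(normalizer (Y : Set G)) →* MulAut ↥Y := Y.normalizerMonoidHom

/-- The image of a subgroup. -/
def img (K Y : Subgroup G) : Subgroup (MulAut ↥Y) :=
  (K.subgroupOf (normalizer (Y : Set G))).map (conjAdd Y)

theorem conjAdd_val (Y : Subgroup G) (k : ↥(normalizer (Y : Set G))) (v : Additive ↥Y) :
    ((Additive.toMul (conjAdd Y k • v) : ↥Y) : G) = k * ((Additive.toMul v : ↥Y) : G) * (k : G)⁻¹ := rfl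

theorem conjAdd_eq_one (Y : Subgroup G) (k : ↥(normalizer (Y : Set G))) :
    conjAdd Y k = 1 ↔ (k : G) ∈ centralizer (Y : Set G) := by
  rw [mem_centralizer_iff]
  constructor
  · intro h y hy
    have h' := congrArg (fun f : MulAut ↥Y => ((f ⟨y, hy⟩ : ↥Y) : G)) h
    have e : (k : G) * y * (k : G)⁻¹ = y := h'
    exact (mul_inv_eq_iff_eq_mul.1 e).symm
  · intro h
    refine MulEquiv.ext fun v => Subtype.ext ?_
    show (k : G) * v * (k : G)⁻¹ = v
    rw [← h _ v.2, mul_inv_cancel_right]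

theorem mem_img {K Y : Subgroup G} (hKY : K ≤ normalizer (Y : Set G)) {f : MulAut ↥Y} :
    f ∈ img K Y ↔ ∃ k, ∃ hk : k ∈ K, conjAdd Y ⟨k, hKY hk⟩ = f := by
  constructor
  · rintro ⟨k, hk, rfl⟩
    exact ⟨k, hk, rfl⟩
  · rintro ⟨k, hk, rfl⟩
    exact ⟨⟨k, hKY hk⟩, hk, rfl⟩

theorem h2_additive {Y : Subgroup G} (hY : Cfsg.IsElementaryAbelian 2 Y) (v : Additive ↥Y) : v + v = 0 :=
  Additive.toMul.injective (Subtype.ext (by
    show ((Additive.toMul v : ↥Y) : G) * ((Additive.toMul v : ↥Y) : G) = 1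
    rw [← pow_two]; exact hY.2 _ (Additive.toMul v).2))

/-- No plane in the image of an `S₄`-free group. -/
theorem not_plane_img {K Y : Subgroup G} (hY : Cfsg.IsElementaryAbelian 2 Y) (hYK : Y ≤ K)
    (hKY : K ≤ normalizer (Y : Set G)) (hS4 : ¬ Cfsg.Involves (Equiv.Perm (Fin 4)) ↥K) :
    letI := elemComm hY
    ¬ Plane3 ↥(img K Y) (Additive ↥Y) := by
  letI := elemComm hY
  rintro ⟨⟨c, hc⟩, ⟨b, hb⟩, w, y, hw, hy, hne, hcw, hcy, hbw, hby⟩
  obtain ⟨k, hk, rfl⟩ := (mem_img hKY).1 hc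
  obtain ⟨l, hl, rfl⟩ := (mem_img hKY).1 hb
  let val : Additive ↥Y → ↥K := fun v => ⟨((Additive.toMul v : ↥Y) : G), hYK (Additive.toMul v).2⟩
  have hval : ∀ {u v : Additive ↥Y}, u = v → val u = val v := fun h => by rw [h]
  refine hS4 (involves_of_plane (c := (⟨k, hk⟩ : ↥K)) (b := ⟨l, hl⟩) (w := val w) (y := val y)
    (Subtype.ext (Lib.Thompson.commute_of_elementary hY (Additive.toMul w).2 (Additive.toMul y).2))
    (Subtype.ext (hY.2 _ (Additive.toMul w).2)) (Subtype.ext (hY.2 _ (Additive.toMul y).2)) ?_ ?_ ?_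
    (hval hcw) (hval hcy) (hval hbw) (hval hby))
  · exact fun h => hw (Additive.toMul.injective (Subtype.ext (congrArg (fun z : ↥K => (z : G)) h)))
  · exact fun h => hy (Additive.toMul.injective (Subtype.ext (congrArg (fun z : ↥K => (z : G)) h)))
  · exact fun h => hne (Additive.toMul.injective (Subtype.ext (congrArg (fun z : ↥K => (z : G)) h)))

/-- In a solvable group without normal `2`-subgroups the odd core contains its centralizer. -/
theorem centralizer_pPrimeCore_le {I : Type*} [Group I] [Finite I] [Group.IsSolvable I]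
    (hO : Cfsg.pCore 2 I = ⊥) : centralizer (Cfsg.pPrimeCore 2 I : Set I) ≤ Cfsg.pPrimeCore 2 I := by
  haveI : Fact (Nat.Prime 2) := ⟨Nat.prime_two⟩
  have hF : Cfsg.fittingSubgroup I ≤ Cfsg.pPrimeCore 2 I := by
    rw [Lib.Hall.fittingSubgroup_eq_iSup_pCore]
    refine iSup_le fun q => ?_
    by_cases hq : (q : ℕ) = 2
    · rw [hq, hO]; exact bot_le
    · haveI : Fact (q : ℕ).Prime := ⟨q.2⟩
      haveI : (Cfsg.pCore (q : ℕ) I).Normal := Lib.Hall.pCore_normal _
      obtain ⟨k, hk⟩ := IsPGroup.iff_card.mp (Lib.Hall.isPGroup_pCore (G := I) (q : ℕ))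
      refine Lib.Hall.le_pPrimeCore ?_
      rw [hk]
      exact Nat.Coprime.pow_left k ((Nat.coprime_primes q.2 Nat.prime_two).mpr hq)
  exact (centralizer_le (SetLike.coe_subset_coe.2 hF)).trans (Lib.Hall.centralizer_fittingSubgroup_le.trans hF)

/-- The squared bound for a faithful image. -/
theorem bound_img {K Y : Subgroup G} (hY : Cfsg.IsElementaryAbelian 2 Y) (hYK : Y ≤ K)
    (hKY : K ≤ normalizer (Y : Set G)) (hS4 : ¬ Cfsg.Involves (Equiv.Perm (Fin 4)) ↥K)
    {R : Subgroup ↥(img K Y)} (hR : Odd (Nat.card R))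
    {D : Subgroup G} (hDK : D ≤ K)
    (hsq : ∀ d ∈ D, d ^ 2 ∈ centralizer (Y : Set G)) (hcom : ∀ d ∈ D, ∀ d' ∈ D, ⁅d, d'⁆ ∈ centralizer (Y : Set G))
    (hnorm : ∀ (d : G) (hd : d ∈ D),
      (⟨conjAdd Y ⟨d, hKY (hDK hd)⟩, (mem_img hKY).2 ⟨d, hDK hd, rfl⟩⟩ : ↥(img K Y)) ∈ normalizer (R : Set ↥(img K Y)))
    (hfree : ∀ (d : G) (hd : d ∈ D),
      (⟨conjAdd Y ⟨d, hKY (hDK hd)⟩, (mem_img hKY).2 ⟨d, hDK hd, rfl⟩⟩ : ↥(img K Y)) ∈ centralizer (R : Set ↥(img K Y)) →
        d ∈ centralizer (Y : Set G)) :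
    Nat.card D * Nat.card D * Nat.card ↥(Y ⊓ centralizer (D : Set G)) ≤
      Nat.card ↥(D ⊓ centralizer (Y : Set G)) * Nat.card ↥(D ⊓ centralizer (Y : Set G)) * Nat.card Y := by
  classical
  letI := elemComm hY
  haveI : Finite (MulAut ↥Y) := Finite.of_injective (fun f => (f : ↥Y → ↥Y)) DFunLike.coe_injective
  haveI : FaithfulSMul ↥(img K Y) (Additive ↥Y) := ⟨fun {f g} h => Subtype.ext (MulEquiv.ext fun y => congrArg Additive.toMul (h (Additive.ofMul y)))⟩
  let φ : D →* ↥(img K Y) :=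
    ((conjAdd Y).comp (inclusion (hDK.trans hKY))).codRestrict _ fun d => (mem_img hKY).2 ⟨d, hDK d.2, rfl⟩
  have hφker : ∀ d : D, φ d = 1 ↔ (d : G) ∈ centralizer (Y : Set G) := fun d => by
    rw [Subtype.ext_iff]; exact conjAdd_eq_one Y _
  have hE : Cfsg.IsElementaryAbelian 2 φ.range := by
    refine ⟨⟨⟨?_⟩⟩, ?_⟩
    · rintro ⟨_, a, rfl⟩ ⟨_, b, rfl⟩
      refine Subtype.ext ?_
      show φ a * φ b = φ b * φ a
      rw [← commutatorElement_eq_one_iff_mul_comm, ← map_commutatorElement, hφker]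
      exact hcom a a.2 b b.2
    · rintro _ ⟨a, rfl⟩
      rw [← map_pow, hφker, SubmonoidClass.coe_pow]
      exact hsq a a.2
  have h := bound (h2_additive hY) (not_plane_img hY hYK hKY hS4) hR φ.range hE (by
    rintro _ ⟨d, rfl⟩; exact hnorm d d.2)
  have h0 : φ.range ⊓ centralizer (R : Set ↥(img K Y)) = ⊥ := by
    rw [eq_bot_iff]
    rintro _ ⟨⟨d, rfl⟩, hd⟩
    exact mem_bot.2 ((hφker d).2 (hfree d d.2 hd))
  rw [h0, card_bot, one_mul, one_mul] at h
  have hcard := φ.ker.card_mul_index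
  rw [index_ker] at hcard
  have hk : Nat.card φ.ker = Nat.card ↥(D ⊓ centralizer (Y : Set G)) := Nat.card_congr
    { toFun := fun d => ⟨((d : D) : G), (d : D).2, (hφker d).1 d.2⟩
      invFun := fun d => ⟨⟨d, d.2.1⟩, (hφker _).2 d.2.2⟩
      left_inv := fun _ => rfl
      right_inv := fun _ => rfl }
  have hf : Nat.card (fix φ.range (⊤ : AddSubgroup (Additive ↥Y))) = Nat.card ↥(Y ⊓ centralizer (D : Set G)) := Nat.card_congr
    { toFun := fun v => ⟨((Additive.toMul (v : Additive ↥Y) : ↥Y) : G), (Additive.toMul (v : Additive ↥Y)).2,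
        mem_centralizer_iff.2 fun d hd => mul_inv_eq_iff_eq_mul.1
          (congrArg (fun z : Additive ↥Y => ((Additive.toMul z : ↥Y) : G)) (v.2.2 (φ ⟨d, hd⟩) ⟨⟨d, hd⟩, rfl⟩))⟩
      invFun := fun y => ⟨Additive.ofMul ⟨y, y.2.1⟩, AddSubgroup.mem_top _, by
        rintro _ ⟨d, rfl⟩
        exact Additive.toMul.injective (Subtype.ext (mul_inv_eq_iff_eq_mul.2 (mem_centralizer_iff.1 y.2.2 d d.2)))⟩
      left_inv := fun _ => rfl
      right_inv := fun _ => rfl }
  have hA : Nat.card (Additive ↥Y) = Nat.card Y := Nat.card_congr Additive.toMul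
  rw [← hcard, hk, ← hf]
  rw [hA] at h
  calc Nat.card ↥(D ⊓ centralizer (Y : Set G)) * Nat.card φ.range *
        (Nat.card ↥(D ⊓ centralizer (Y : Set G)) * Nat.card φ.range) * Nat.card (fix φ.range (⊤ : AddSubgroup (Additive ↥Y)))
      = Nat.card ↥(D ⊓ centralizer (Y : Set G)) * Nat.card ↥(D ⊓ centralizer (Y : Set G)) *
          (Nat.card φ.range * Nat.card φ.range * Nat.card (fix φ.range (⊤ : AddSubgroup (Additive ↥Y)))) := by ring
    _ ≤ _ := Nat.mul_le_mul_left _ h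

/-- The squared bound for a solvable image without normal `2`-subgroups. -/
theorem bound_reduced {K Y : Subgroup G} (hY : Cfsg.IsElementaryAbelian 2 Y) (hYK : Y ≤ K)
    (hKY : K ≤ normalizer (Y : Set G)) (hS4 : ¬ Cfsg.Involves (Equiv.Perm (Fin 4)) ↥K)
    (hsol : Group.IsSolvable ↥K) (hO : Cfsg.pCore 2 ↥(img K Y) = ⊥)
    {D : Subgroup G} (hDK : D ≤ K)
    (hsq : ∀ d ∈ D, d ^ 2 ∈ centralizer (Y : Set G)) (hcom : ∀ d ∈ D, ∀ d' ∈ D, ⁅d, d'⁆ ∈ centralizer (Y : Set G)) :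
    Nat.card D * Nat.card D * Nat.card ↥(Y ⊓ centralizer (D : Set G)) ≤
      Nat.card ↥(D ⊓ centralizer (Y : Set G)) * Nat.card ↥(D ⊓ centralizer (Y : Set G)) * Nat.card Y := by
  haveI : Finite (MulAut ↥Y) := Finite.of_injective (fun f => (f : ↥Y → ↥Y)) DFunLike.coe_injective
  haveI : Fact (Nat.Prime 2) := ⟨Nat.prime_two⟩
  let ψ : ↥K →* ↥(img K Y) := ((conjAdd Y).comp (inclusion hKY)).codRestrict _ fun k => (mem_img hKY).2 ⟨k, k.2, rfl⟩
  haveI : Group.IsSolvable ↥(img K Y) := Group.isSolvable_of_surjective (f := ψ) (by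
    rintro ⟨f, hf⟩
    obtain ⟨k, hk, rfl⟩ := (mem_img hKY).1 hf
    exact ⟨⟨k, hk⟩, rfl⟩)
  set R := Cfsg.pPrimeCore 2 ↥(img K Y) with hR
  haveI hRn : R.Normal := Lib.Hall.pPrimeCore_normal 2
  refine bound_img hY hYK hKY hS4 (R := R) (Nat.coprime_two_right.1 (Lib.Hall.coprime_card_pPrimeCore 2)) hDK hsq hcom
    (fun d hd => by rw [normalizer_eq_top]; exact mem_top _) fun d hd hdR => ?_
  set t : ↥(img K Y) := ⟨conjAdd Y ⟨d, hKY (hDK hd)⟩, (mem_img hKY).2 ⟨d, hDK hd, rfl⟩⟩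
  have ht : t ∈ R := centralizer_pPrimeCore_le hO hdR
  have ht2 : t ^ 2 = 1 := Subtype.ext (by
    show conjAdd Y ⟨d, hKY (hDK hd)⟩ ^ 2 = 1
    rw [← map_pow, conjAdd_eq_one, SubmonoidClass.coe_pow]; exact hsq d hd)
  have ht1 : t = 1 := by
    rw [← orderOf_eq_one_iff]
    exact Nat.eq_one_of_dvd_coprimes (Lib.Hall.coprime_card_pPrimeCore 2)
      (Subgroup.orderOf_dvd_natCard R ht) (orderOf_dvd_of_pow_eq_one ht2)
  have h := congrArg Subtype.val ht1
  exact (conjAdd_eq_one Y _).1 h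

end Cfsg.Agent.Lib.QuadPair
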