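import Cfsg.Agent.Lib.QuadPair.Prelim
import Cfsg.Agent.Lib.LocalChar.Core
import Cfsg.Agent.Lib.Thompson.RankFour
import Cfsg.Agent.Lib.FPF.Thompson

/-!
A chief factor at the top of a module on which the odd-order elements act nontrivially.
-/

set_option autoImplicit false
open Subgroup
open scoped commutatorElement

namespace Cfsg.Agent.Lib.QuadPair

universe v
variable {H : Type v} [Group H] [Finite H]

/-- The elements acting trivially on the section `A/B`. -/
def actKer (A B : Subgroup H) [B.Normal] : Subgroup H :=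
  (centralizer (A.map (QuotientGroup.mk' B) : Set (H ⧸ B))).comap (QuotientGroup.mk' B)

theorem mem_actKer {A B : Subgroup H} [B.Normal] {x : H} :
    x ∈ actKer A B ↔ ∀ a ∈ A, ⁅x, a⁆ ∈ B := by
  rw [actKer, mem_comap, mem_centralizer_iff]
  constructor
  · intro h a ha
    refine (QuotientGroup.eq_one_iff _).1 (show QuotientGroup.mk' B ⁅x, a⁆ = 1 from ?_)
    rw [map_commutatorElement, commutatorElement_eq_one_iff_mul_comm]
    exact (h _ ⟨a, ha, rfl⟩).symm
  · rintro h _ ⟨a, ha, rfl⟩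
    have h1 : QuotientGroup.mk' B ⁅x, a⁆ = 1 := (QuotientGroup.eq_one_iff _).2 (h a ha)
    rw [map_commutatorElement, commutatorElement_eq_one_iff_mul_comm] at h1
    exact h1.symm

instance actKer_normal (A B : Subgroup H) [A.Normal] [B.Normal] : (actKer A B).Normal := by
  haveI : (A.map (QuotientGroup.mk' B)).Normal :=
    Normal.map inferInstance _ (QuotientGroup.mk'_surjective B)
  haveI : (centralizer (A.map (QuotientGroup.mk' B) : Set (H ⧸ B))).Normal := inferInstance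
  exact Normal.comap inferInstance _

theorem le_actKer_self {W B : Subgroup H} [B.Normal] (hW : Cfsg.IsElementaryAbelian 2 W) : W ≤ actKer W B :=
  fun x hx => mem_actKer.2 fun a ha => by
    rw [commutatorElement_eq_one_iff_mul_comm.2 (Lib.Thompson.commute_of_elementary hW hx ha)]; exact one_mem _

/-- The subgroup generated by the elements of odd order. -/
def oddGen (H : Type v) [Group H] : Subgroup H := closure {x : H | Odd (orderOf x)}

instance oddGen_normal : (oddGen H).Normal := by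
  refine ⟨fun x hx g => ?_⟩
  revert hx
  refine fun hx => closure_induction (p := fun x _ => g * x * g⁻¹ ∈ oddGen H) ?_ ?_ ?_ ?_ hx
  · intro y hy
    refine subset_closure ?_
    show Odd (orderOf ((MulAut.conj g).toMonoidHom y))
    rw [orderOf_injective _ (MulAut.conj g).injective]; exact hy
  · simp
  · intro a b _ _ ha hb
    rw [show g * (a * b) * g⁻¹ = (g * a * g⁻¹) * (g * b * g⁻¹) by group]; exact mul_mem ha hb
  · intro a _ ha
    rw [show g * a⁻¹ * g⁻¹ = (g * a * g⁻¹)⁻¹ by group]; exact inv_mem ha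

theorem isPGroup_quotient_oddGen : IsPGroup 2 (H ⧸ oddGen H) := by
  intro x
  obtain ⟨g, rfl⟩ := QuotientGroup.mk_surjective x
  obtain ⟨b, -, hb⟩ := exists_odd_pow g
  exact ⟨b, by rw [← QuotientGroup.mk_pow, QuotientGroup.eq_one_iff]; exact subset_closure hb⟩

theorem oddGen_sup_sylow (S : Sylow 2 H) : oddGen H ⊔ (S : Subgroup H) = ⊤ := by
  haveI : Fact (Nat.Prime 2) := ⟨Nat.prime_two⟩
  rw [← index_eq_one]
  obtain ⟨k, hk⟩ := IsPGroup.iff_card.mp (isPGroup_quotient_oddGen (H := H))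
  have h1 : (oddGen H ⊔ (S : Subgroup H)).index ∣ 2 ^ k := by
    rw [← hk, ← index_eq_card]; exact index_dvd_of_le le_sup_left
  have h2 : (oddGen H ⊔ (S : Subgroup H)).index ∣ (S : Subgroup H).index := index_dvd_of_le le_sup_right
  exact Nat.eq_one_of_dvd_coprimes
    (Nat.Coprime.pow_left k ((Nat.prime_two.coprime_iff_not_dvd).2 S.not_dvd_index)) h1 h2

theorem oddGen_le_of_sup_eq_top (S : Sylow 2 H) {N : Subgroup H} [N.Normal] (h : N ⊔ (S : Subgroup H) = ⊤) :
    oddGen H ≤ N := by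
  refine (closure_le _).2 fun x hx => ?_
  obtain ⟨n, hn, s, hs, rfl⟩ := mem_sup_of_normal_left.1 (h.symm ▸ mem_top x)
  obtain ⟨k, hk⟩ := S.isPGroup' ⟨s, hs⟩
  have hk' : s ^ (2 ^ k) = 1 := congrArg Subtype.val hk
  refine (QuotientGroup.eq_one_iff _).1 (eq_one_of_pow_two_pow (x := ((n * s : H) : H ⧸ N))
    (Odd.of_dvd_nat hx (orderOf_map_dvd (QuotientGroup.mk' N) _)) (n := k) ?_)
  rw [QuotientGroup.mk_mul, (QuotientGroup.eq_one_iff n).2 hn, one_mul, ← QuotientGroup.mk_pow, hk',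
    QuotientGroup.mk_one]

/-- A `2`-group acting on a nontrivial `2`-group has a proper commutator. -/
theorem commutator_lt_of_two_groups {A T : Subgroup H} (hA : IsPGroup 2 A) (hT : IsPGroup 2 T)
    (hTA : T ≤ normalizer (A : Set H)) (hne : A ≠ ⊥) : ⁅A, T⁆ < A := by
  haveI : Fact (Nat.Prime 2) := ⟨Nat.prime_two⟩
  set P := A ⊔ T with hP
  have hPp : IsPGroup 2 P := hA.to_sup_of_normal_left' hT hTA
  haveI : (A.subgroupOf P).Normal := (normal_subgroupOf_iff_le_normalizer le_sup_left).2 (sup_le le_normalizer hTA)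
  have hne' : A.subgroupOf P ≠ ⊥ := fun e => hne (by
    have := subgroupOf_eq_bot.1 e
    exact (disjoint_self.1 (this.mono_right le_sup_left)))
  have h := map_lt_map_iff_of_injective P.subtype_injective |>.2 (Lib.Thompson.commutator_top_lt hPp hne')
  rw [map_commutator, subgroupOf_map_subtype, inf_eq_left.2 le_sup_left, ← MonoidHom.range_eq_map, range_subtype] at h
  exact lt_of_le_of_lt (commutator_mono le_rfl le_sup_right) h

/-- The complement to a chief factor moved by the odd-order elements. -/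
theorem exists_top_factor (hsol : Group.IsSolvable H) (S : Sylow 2 H) {W W0 M0 : Subgroup H} [W.Normal] [W0.Normal]
    [M0.Normal] (hW : Cfsg.IsElementaryAbelian 2 W) (hM0 : M0 < W0) (hW0 : W0 ≤ W)
    (hirr : ∀ K : Subgroup H, K.Normal → M0 ≤ K → K ≤ W0 → K = M0 ∨ K = W0)
    (hmove : ¬ oddGen H ≤ actKer W0 M0)
    (htriv : ∀ x ∈ oddGen H, x ∈ actKer W0 M0 → ∀ w ∈ W, ⁅x, w⁆ ∈ M0)
    (hcom : ∀ x ∈ oddGen H, ∀ w ∈ W, ⁅x, w⁆ ∈ W0) :
    ∃ M : Subgroup H, M.Normal ∧ M ≤ W ∧ ¬ W0 ≤ M ∧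
      ∀ K : Subgroup H, K.Normal → M ≤ K → K ≤ W → K = M ∨ K = W := by
  classical
  haveI : Fact (Nat.Prime 2) := ⟨Nat.prime_two⟩
  let mk := QuotientGroup.mk' M0
  have hmk : Function.Surjective mk := QuotientGroup.mk'_surjective M0
  have hmk1 : ∀ x, mk x = 1 ↔ x ∈ M0 := fun x => QuotientGroup.eq_one_iff x
  set Y := W.map mk with hYdef
  have hY : Cfsg.IsElementaryAbelian 2 Y := Lib.Thompson.isElementaryAbelian_map mk hW
  haveI hYn : Y.Normal := Normal.map inferInstance mk hmk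
  have hKY : (⊤ : Subgroup (H ⧸ M0)) ≤ normalizer (Y : Set (H ⧸ M0)) := by rw [normalizer_eq_top]
  haveI : Finite (MulAut ↥Y) := Finite.of_injective (fun f => (f : ↥Y → ↥Y)) DFunLike.coe_injective
  let ψ : H →* ↥(img ⊤ Y) := ((conjAdd Y).comp ((inclusion hKY).comp ((Subgroup.topEquiv.symm.toMonoidHom).comp mk))).codRestrict _
    fun l => (mem_img hKY).2 ⟨mk l, mem_top _, rfl⟩
  have hψs : Function.Surjective ψ := by
    rintro ⟨_, hi⟩
    obtain ⟨k, -, rfl⟩ := (mem_img hKY).1 hi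
    obtain ⟨l, rfl⟩ := hmk k
    exact ⟨l, rfl⟩
  haveI : Group.IsSolvable H := hsol
  haveI hIsol : Group.IsSolvable ↥(img ⊤ Y) := Group.isSolvable_of_surjective hψs
  have hact : ∀ (x : H) (y : ↥Y), ((((ψ x : ↥(img ⊤ Y)) : MulAut ↥Y) y : ↥Y) : H ⧸ M0) = mk x * y * (mk x)⁻¹ :=
    fun _ _ => rfl
  have hψ1 : ∀ x, ψ x = 1 ↔ x ∈ actKer W M0 := by
    intro x
    rw [Subtype.ext_iff]
    show conjAdd Y ⟨mk x, hKY (mem_top _)⟩ = 1 ↔ _
    rw [conjAdd_eq_one]; rfl
  set Õ := (oddGen H).map ψ with hÕ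
  haveI : Õ.Normal := Normal.map inferInstance ψ hψs
  have hÕne : Õ ≠ ⊥ := fun e => hmove fun x hx => mem_actKer.2 fun a ha =>
    mem_actKer.1 ((hψ1 x).1 (mem_bot.1 (e ▸ ⟨x, hx, rfl⟩))) a (hW0 ha)
  obtain ⟨F, hFn, hF1, hFO, hFmin⟩ := Lib.Hall.exists_minimal_normal_le hÕne
  obtain ⟨-, p, hp, hpow⟩ := Lib.Hall.minimal_normal_solvable F hF1 hFmin
  -- a nontrivial element of `F` moves the chief factor
  have hFU : ∀ x : H, x ∈ oddGen H → ψ x ∈ F → ψ x ≠ 1 → x ∉ actKer W0 M0 := fun x hx _ hx1 hk =>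
    hx1 ((hψ1 x).2 (mem_actKer.2 (htriv x hx hk)))
  have hFodd : Odd (Nat.card F) := by
    by_cases hp2 : p = 2
    · exfalso
      subst hp2
      have hFp : IsPGroup 2 F := Lib.Hall.isPGroup_of_pow_eq_one hpow
      set P0 := F.comap ψ with hP0
      haveI : P0.Normal := Normal.comap inferInstance ψ
      have hFS : F ≤ (S : Subgroup H).map ψ := by
        rw [← Sylow.coe_mapSurjective hψs S]
        exact (Lib.Hall.le_pCore hFp).trans (Lib.Hall.pCore_le_sylow _)
      set T := (S : Subgroup H) ⊓ P0 with hT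
      set U := W0.map mk with hU
      haveI : U.Normal := Normal.map inferInstance mk hmk
      have hUY : U ≤ Y := map_mono hW0
      have hUp : IsPGroup 2 U := (Lib.Thompson.isPGroup_of_elementary hY).to_le hUY
      have hUne : U ≠ ⊥ := fun e => hM0.not_ge fun a ha => (hmk1 a).1 (mem_bot.1 (e ▸ ⟨a, ha, rfl⟩))
      have hlt := commutator_lt_of_two_groups hUp ((S.isPGroup'.to_le (inf_le_left : T ≤ S)).map mk)
        (by rw [normalizer_eq_top]; exact le_top) hUne
      have heq : ⁅U, P0.map mk⁆ ≤ ⁅U, T.map mk⁆ := by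
        rw [commutator_le]
        rintro u hu _ ⟨x, hx, rfl⟩
        obtain ⟨t, ht, hte⟩ := hFS hx
        have htP : t ∈ P0 := show ψ t ∈ F from hte ▸ hx
        have hk : t⁻¹ * x ∈ actKer W M0 := (hψ1 _).1 (by rw [map_mul, map_inv, hte, inv_mul_cancel])
        have hku : mk (t⁻¹ * x) * u = u * mk (t⁻¹ * x) := (mem_centralizer_iff.1 hk u (hUY hu)).symm
        have e : ⁅u, mk x⁆ = ⁅u, mk t⁆ := by
          have ex : mk x = mk t * mk (t⁻¹ * x) := by rw [← map_mul, mul_inv_cancel_left]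
          rw [ex, commutatorElement_def, commutatorElement_def, mul_inv_rev]
          calc u * (mk t * mk (t⁻¹ * x)) * u⁻¹ * ((mk (t⁻¹ * x))⁻¹ * (mk t)⁻¹)
              = u * mk t * (mk (t⁻¹ * x) * u⁻¹ * (mk (t⁻¹ * x))⁻¹) * (mk t)⁻¹ := by group
            _ = u * mk t * u⁻¹ * (mk t)⁻¹ := by
              rw [(Commute.inv_right (show Commute (mk (t⁻¹ * x)) u from hku)).eq, mul_inv_cancel_right]
        rw [e]; exact commutator_mem_commutator hu ⟨t, ⟨ht, htP⟩, rfl⟩
      haveI : (P0.map mk).Normal := Normal.map inferInstance mk hmk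
      set K := (⁅U, P0.map mk⁆).comap mk ⊓ W0 with hK
      rcases hirr K inferInstance (le_inf (fun a ha => by
        show mk a ∈ ⁅U, P0.map mk⁆
        rw [(hmk1 a).2 ha]; exact one_mem _) hM0.le) inf_le_right with hKe | hKe
      · obtain ⟨y, hy, hy1⟩ := (bot_or_exists_ne_one F).resolve_left hF1
        obtain ⟨x, hx, rfl⟩ := hFO hy
        refine hFU x hx hy hy1 (mem_actKer.2 fun a ha => hKe.le ?_)
        refine mem_inf.2 ⟨?_, hcom x hx a (hW0 ha)⟩
        rw [mem_comap]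
        rw [map_commutatorElement, ← commutatorElement_inv]
        exact inv_mem (commutator_mem_commutator ⟨a, ha, rfl⟩ ⟨x, hy, rfl⟩)
      · refine hlt.not_ge (le_trans ?_ heq)
        rintro _ ⟨a, ha, rfl⟩
        exact (hKe.ge ha).1
    · haveI : Fact p.Prime := ⟨hp⟩
      obtain ⟨k, hk⟩ := IsPGroup.iff_card.mp (Lib.Hall.isPGroup_of_pow_eq_one hpow)
      rw [hk]; exact (hp.odd_of_ne_two hp2).pow
  -- fixed points
  letI := elemComm hY
  let Fix : Subgroup ↥Y :=
    { carrier := {y | ∀ f ∈ F, (f : MulAut ↥Y) y = y}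
      one_mem' := fun f _ => map_one (f : MulAut ↥Y)
      mul_mem' := fun {a b} ha hb f hf => by rw [map_mul, ha f hf, hb f hf]
      inv_mem' := fun {a} ha f hf => by rw [map_inv, ha f hf] }
  set M := (Fix.map Y.subtype).comap mk ⊓ W with hM
  have hMnormal : ((Fix.map Y.subtype).comap mk).Normal := by
    refine ⟨fun m hm x => ?_⟩
    obtain ⟨y, hy, hym⟩ := hm
    refine ⟨((ψ x : ↥(img ⊤ Y)) : MulAut ↥Y) y, fun f hf => ?_, ?_⟩
    · have h := hy ((ψ x)⁻¹ * f * ψ x) (Normal.conj_mem' hFn f hf _)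
      have h' := congrArg (((ψ x : ↥(img ⊤ Y)) : MulAut ↥Y)) h
      simpa using h'
    · show (((((ψ x : ↥(img ⊤ Y)) : MulAut ↥Y) y : ↥Y)) : H ⧸ M0) = mk (x * m * x⁻¹)
      rw [hact, show (y : H ⧸ M0) = mk m from hym, map_mul, map_mul, map_inv]
  haveI : M.Normal := inferInstance
  have hMM0 : M ⊓ W0 = M0 := by
    have hM0M : M0 ≤ (Fix.map Y.subtype).comap mk := fun a ha => ⟨1, one_mem _, ((hmk1 a).2 ha).symm⟩
    rcases hirr (M ⊓ W0) inferInstance (le_inf (le_inf hM0M (hM0.le.trans hW0)) hM0.le) inf_le_right with h | h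
    · exact h
    · exfalso
      obtain ⟨y, hy, hy1⟩ := (bot_or_exists_ne_one F).resolve_left hF1
      obtain ⟨x, hx, rfl⟩ := hFO hy
      refine hFU x hx hy hy1 (mem_actKer.2 fun a ha => ?_)
      obtain ⟨z, hz, hza⟩ := (h.ge ha).1.1
      refine (hmk1 _).1 ?_
      have h1 := congrArg Subtype.val (hz _ hy)
      rw [hact, show (z : H ⧸ M0) = mk a from hza] at h1
      rw [map_commutatorElement, commutatorElement_def, h1, mul_inv_cancel]
  have hsplit : ∀ w ∈ W, ∃ m ∈ M, ∃ a ∈ W0, w = m * a := by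
    intro w hw
    set y : ↥Y := ⟨mk w, w, hw, rfl⟩ with hy
    haveI : Fintype F := Fintype.ofFinite _
    set e : ↥Y := ∏ f : F, ((f : ↥(img ⊤ Y)) : MulAut ↥Y) y with he
    have hefix : e ∈ Fix := by
      intro f hf
      rw [he, map_prod]
      exact Fintype.prod_equiv (Equiv.mulLeft (⟨f, hf⟩ : F)) _ _ fun g => rfl
    have hdiff : y⁻¹ * e ∈ (W0.map mk).subgroupOf Y := by
      have hyc : y ^ Nat.card F = y := by
        obtain ⟨k, hk⟩ := hFodd
        have h2 : y ^ 2 = 1 := Subtype.ext (hY.2 _ y.2)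
        rw [hk, pow_succ, pow_mul, h2, one_pow, one_mul]
      have : y⁻¹ * e = ∏ f : F, y⁻¹ * ((f : ↥(img ⊤ Y)) : MulAut ↥Y) y := by
        rw [Finset.prod_mul_distrib, ← he, Finset.prod_const, Finset.card_univ, ← Nat.card_eq_fintype_card,
          inv_pow, hyc]
      rw [this]
      refine Subgroup.prod_mem _ fun f _ => ?_
      obtain ⟨x, hx, hxf⟩ := hFO f.2
      refine ⟨w⁻¹ * (x * w * x⁻¹), ?_, ?_⟩
      · rw [show w⁻¹ * (x * w * x⁻¹) = w⁻¹ * ⁅x, w⁆ * w by rw [commutatorElement_def]; group]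
        exact Normal.conj_mem' inferInstance _ (hcom x hx w hw) w
      · rw [← hxf, map_mul, map_mul, map_mul, map_inv, map_inv]
        rfl
    obtain ⟨a, ha, hae⟩ := hdiff
    have ha' : mk a = (mk w)⁻¹ * (e : H ⧸ M0) := hae
    refine ⟨w * a, mem_inf.2 ⟨⟨e, hefix, ?_⟩, mul_mem hw (hW0 ha)⟩, a⁻¹, inv_mem ha, by group⟩
    show (e : H ⧸ M0) = mk (w * a)
    rw [map_mul, ha', mul_inv_cancel_left]
  refine ⟨M, inferInstance, inf_le_right, fun h => hM0.not_ge ((le_inf h le_rfl).trans hMM0.le), ?_⟩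
  intro K hK hMK hKW
  rcases hirr (K ⊓ W0) inferInstance (le_inf ((hMM0.ge.trans inf_le_left).trans hMK) hM0.le) inf_le_right with h | h
  · left
    refine le_antisymm (fun k hk => ?_) hMK
    obtain ⟨m, hm, a, ha, rfl⟩ := hsplit k (hKW hk)
    have : a ∈ K ⊓ W0 := ⟨by simpa using mul_mem (inv_mem (hMK hm)) hk, ha⟩
    exact mul_mem hm (hMM0.ge (h.le this)).1
  · right
    refine le_antisymm hKW fun w hw => ?_
    obtain ⟨m, hm, a, ha, rfl⟩ := hsplit w hw
    exact mul_mem (hMK hm) (h.ge ha).1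

end Cfsg.Agent.Lib.QuadPair
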