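import Cfsg.Agent.Lib.QuadPair.Bridge
import Cfsg.Agent.Lib.Fusion.Involves
import Cfsg.Agent.Lib.PLength.Basic

/-!
Small facts used in the uniqueness argument for `S₄`-free two-locals.
-/

set_option autoImplicit false
open Subgroup
open scoped commutatorElement

namespace Cfsg.Agent.Lib.QuadPair

universe v
variable {H : Type v} [Group H] [Finite H]

/-- The conjugate of a subgroup. -/
abbrev cj (g : H) (V : Subgroup H) : Subgroup H := V.map (MulAut.conj g).toMonoidHom

theorem mem_cj {g : H} {V : Subgroup H} {x : H} : x ∈ cj g V ↔ g⁻¹ * x * g ∈ V := by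
  constructor
  · rintro ⟨y, hy, rfl⟩; simpa [MulAut.conj_apply, mul_assoc] using hy
  · intro h; exact ⟨_, h, by simp [MulAut.conj_apply, mul_assoc]⟩

theorem cj_one (V : Subgroup H) : cj 1 V = V := by
  ext x; rw [mem_cj]; simp

/-- The hypothesis: the squared bound on every conjugate of `V`. -/
def PBound (V : Subgroup H) : Prop :=
  ∀ g : H, ∀ D : Subgroup H, D ≤ normalizer (cj g V : Set H) →
    (∀ d ∈ D, d ^ 2 ∈ centralizer (cj g V : Set H)) → (∀ d ∈ D, ∀ d' ∈ D, ⁅d, d'⁆ ∈ centralizer (cj g V : Set H)) →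
    Nat.card D * Nat.card D * Nat.card ↥(cj g V ⊓ centralizer (D : Set H)) ≤
      Nat.card ↥(D ⊓ centralizer (cj g V : Set H)) * Nat.card ↥(D ⊓ centralizer (cj g V : Set H)) * Nat.card (cj g V)

theorem elementary_cj {V : Subgroup H} (hV : Cfsg.IsElementaryAbelian 2 V) (g : H) :
    Cfsg.IsElementaryAbelian 2 (cj g V) := Lib.Thompson.isElementaryAbelian_map _ hV

theorem card_cj (g : H) (V : Subgroup H) : Nat.card (cj g V) = Nat.card V :=
  (Nat.card_congr (V.equivMapOfInjective _ (MulAut.conj g).injective).toEquiv).symm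

/-- An element of odd order stabilising a short series fixes it. -/
theorem fix_of_stable {x q c : H} (hodd : Odd (orderOf x)) (h : x * q * x⁻¹ = c * q) (hc : x * c = c * x)
    {n : ℕ} (hcn : c ^ (2 ^ n) = 1) : x * q = q * x := by
  have key : ∀ m : ℕ, x ^ m * q * (x ^ m)⁻¹ = c ^ m * q := by
    intro m
    induction m with
    | zero => simp
    | succ m ih =>
      have hcm : x * c ^ m = c ^ m * x := (Commute.pow_right (show Commute x c from hc) m).eq
      rw [pow_succ', mul_inv_rev]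
      calc x * x ^ m * q * ((x ^ m)⁻¹ * x⁻¹) = x * (x ^ m * q * (x ^ m)⁻¹) * x⁻¹ := by group
        _ = x * c ^ m * q * x⁻¹ := by rw [ih]; group
        _ = c ^ m * (x * q * x⁻¹) := by rw [hcm]; group
        _ = _ := by rw [h, pow_succ, mul_assoc]
  have h1 := key (orderOf x)
  rw [pow_orderOf_eq_one, one_mul, inv_one, mul_one] at h1
  have hcx : c ^ orderOf x = 1 := by simpa using h1.symm
  have hc1 : c = 1 := by
    rw [← orderOf_eq_one_iff]
    exact Nat.eq_one_of_dvd_coprimes (Nat.Coprime.pow_right n (Nat.coprime_two_right.2 hodd))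
      (orderOf_dvd_of_pow_eq_one hcx) (orderOf_dvd_of_pow_eq_one hcn)
  rw [hc1, one_mul] at h
  exact mul_inv_eq_iff_eq_mul.1 h

/-- A power of `g` with a `2`-power exponent has odd order. -/
theorem exists_odd_pow (g : H) : ∃ b : ℕ, 1 ≤ b ∧ Odd (orderOf (g ^ (2 ^ b))) := by
  obtain ⟨b, m, hm, hn⟩ := Nat.exists_eq_pow_mul_and_not_dvd (orderOf_pos g).ne' 2 (by norm_num)
  refine ⟨b + 1, b.succ_pos, (Nat.odd_iff.2 (Nat.two_dvd_ne_zero.1 hm)).of_dvd_nat (orderOf_dvd_of_pow_eq_one ?_)⟩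
  rw [← pow_mul, pow_succ, mul_right_comm, ← hn, pow_mul, pow_orderOf_eq_one, one_pow]

theorem eq_one_of_pow_two_pow {x : H} (hodd : Odd (orderOf x)) {n : ℕ} (h : x ^ (2 ^ n) = 1) : x = 1 := by
  rw [← orderOf_eq_one_iff]
  exact Nat.eq_one_of_dvd_coprimes (Nat.Coprime.pow_right n (Nat.coprime_two_right.2 hodd)) dvd_rfl
    (orderOf_dvd_of_pow_eq_one h)

theorem card_map_mul_card_inf_ker {M : Type*} [Group M] (f : H →* M) (A : Subgroup H) :
    Nat.card (A.map f) * Nat.card ↥(A ⊓ f.ker) = Nat.card A := by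
  have h := (f.comp A.subtype).ker.card_mul_index
  rw [index_ker, MonoidHom.range_comp, range_subtype, mul_comm] at h
  rw [← h]
  congr 1
  exact Nat.card_congr
    { toFun := fun a => ⟨⟨a, a.2.1⟩, a.2.2⟩
      invFun := fun a => ⟨((a : A) : H), (a : A).2, a.2⟩
      left_inv := fun _ => rfl
      right_inv := fun _ => rfl }

theorem involves_of_image {W M : Type*} [Group W] [Group M] (f : H →* M) (hf : Function.Surjective f)
    (h : Cfsg.Involves W M) : Cfsg.Involves W H := by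
  obtain ⟨K, e, he⟩ := Lib.Fusion.exists_surjective_of_involves h
  exact Lib.Fusion.involves_of_surjective (e.comp (f.subgroupComap K))
    (he.comp (f.subgroupComap_surjective_of_surjective K hf))

theorem elementary_pgroup {V : Subgroup H} (hV : Cfsg.IsElementaryAbelian 2 V) {v : H} (hv : v ∈ V) : v * v = 1 := by
  rw [← pow_two]; exact hV.2 v hv

/-- An abelian `2`-group acting faithfully on an odd normal subgroup has a regular orbit. -/
theorem exists_regular {F U : Subgroup H} [F.Normal] (hF : Odd (Nat.card F)) (hU : Cfsg.IsElementaryAbelian 2 U)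
    (hUF : U ⊓ centralizer (F : Set H) = ⊥) : ∃ h ∈ F, ∀ u ∈ U, u * h = h * u → u = 1 := by
  classical
  have hinv : ∀ u ∈ U, u⁻¹ = u := fun u hu => inv_eq_of_mul_eq_one_right (elementary_pgroup hU hu)
  have hcomm : ∀ a ∈ U, ∀ b ∈ U, a * b = b * a := fun a ha b hb => Lib.Thompson.commute_of_elementary hU ha hb
  obtain ⟨h, hh, hmin⟩ := Set.exists_min_image {h : H | h ∈ F} (fun h => Nat.card ↥(U ⊓ centralizer {h}))
    (Set.toFinite _) ⟨1, F.one_mem⟩
  refine ⟨h, hh, fun v hv hvh => ?_⟩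
  by_contra hv1
  obtain ⟨h', hh', hvh'⟩ : ∃ h' ∈ F, v * h' ≠ h' * v := by
    by_contra hcon; push Not at hcon
    exact hv1 (mem_bot.1 (hUF ▸ ⟨hv, mem_centralizer_iff.2 fun y hy => (hcon y hy).symm⟩))
  set d := h'⁻¹ * (v * h' * v⁻¹) with hd
  have hdF : d ∈ F := mul_mem (inv_mem hh') (Normal.conj_mem inferInstance h' hh' v)
  have hd1 : d ≠ 1 := fun e => hvh' (mul_inv_eq_iff_eq_mul.1 (inv_mul_eq_one.1 e).symm)
  have hvd : v * d * v⁻¹ = d⁻¹ := by
    have := elementary_pgroup hU hv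
    calc v * d * v⁻¹ = v * h'⁻¹ * v * h' * (v * v)⁻¹ := by rw [hd]; group
      _ = v * h'⁻¹ * v⁻¹ * h' := by rw [this, inv_one, mul_one, hinv v hv]
      _ = d⁻¹ := by rw [hd]; group
  have huniq : ∀ u ∈ U, u * (h * d) = h * d * u → u * h = h * u ∧ u * d = d * u := by
    intro u hu hc
    have huv : Commute u v := hcomm u hu v hv
    set c := u * h * u⁻¹ with hcdef
    set i := u * d * u⁻¹ with hidef
    have hcv : v * c * v⁻¹ = c := by
      have h1 : v * h * v⁻¹ = h := mul_inv_eq_iff_eq_mul.2 hvh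
      calc v * c * v⁻¹ = (v * u) * h * (v * u)⁻¹ := by rw [hcdef]; group
        _ = (u * v) * h * (u * v)⁻¹ := by rw [huv.eq]
        _ = u * (v * h * v⁻¹) * u⁻¹ := by group
        _ = c := by rw [h1]
    have hiv : v * i * v⁻¹ = i⁻¹ := by
      calc v * i * v⁻¹ = (v * u) * d * (v * u)⁻¹ := by rw [hidef]; group
        _ = (u * v) * d * (u * v)⁻¹ := by rw [huv.eq]
        _ = u * (v * d * v⁻¹) * u⁻¹ := by group
        _ = i⁻¹ := by rw [hvd, hidef]; group
    have hci : c * i = h * d := by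
      have : u * (h * d) * u⁻¹ = h * d := mul_inv_eq_iff_eq_mul.2 hc
      rw [← this, hcdef, hidef]; group
    have hd' : d = (h⁻¹ * c) * i := by rw [mul_assoc, hci]; group
    have hfix : v * (h⁻¹ * c) * v⁻¹ = h⁻¹ * c := by
      have h1 : v * h⁻¹ * v⁻¹ = h⁻¹ := by
        rw [← inv_inj, inv_inv, mul_inv_rev, mul_inv_rev, inv_inv, inv_inv, ← mul_assoc]
        exact mul_inv_eq_iff_eq_mul.2 hvh
      calc v * (h⁻¹ * c) * v⁻¹ = (v * h⁻¹ * v⁻¹) * (v * c * v⁻¹) := by group
        _ = _ := by rw [h1, hcv]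
    have h2 : v * d * v⁻¹ = (h⁻¹ * c) * i⁻¹ := by
      calc v * d * v⁻¹ = v * ((h⁻¹ * c) * i) * v⁻¹ := by rw [← hd']
        _ = (v * (h⁻¹ * c) * v⁻¹) * (v * i * v⁻¹) := by group
        _ = _ := by rw [hfix, hiv]
    have he : h⁻¹ * c = d * i⁻¹ := eq_mul_inv_of_mul_eq hd'.symm
    rw [hvd, he] at h2
    have hsq : d ^ 2 = i ^ 2 := by
      have h3 := congrArg (fun z => (d⁻¹ * z)⁻¹) h2
      simpa [pow_two, mul_assoc] using h3
    have hiF : i ∈ F := Normal.conj_mem inferInstance d hdF u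
    have hdi : d = i := by
      obtain ⟨k, hk⟩ := hF
      have e : ∀ z ∈ F, z = (z ^ 2) ^ (k + 1) := fun z hz => by
        have h1 : z ^ Nat.card F = 1 := congrArg Subtype.val (pow_card_eq_one' (x := (⟨z, hz⟩ : F)))
        rw [← pow_mul, show 2 * (k + 1) = Nat.card F + 1 by omega, pow_succ, h1, one_mul]
      rw [e d hdF, e i hiF, hsq]
    have hch : c = h := by
      have := hci; rw [← hdi] at this; exact mul_right_cancel this
    exact ⟨mul_inv_eq_iff_eq_mul.1 hch, mul_inv_eq_iff_eq_mul.1 hdi.symm⟩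
  refine absurd (hmin (h * d) (mul_mem hh hdF)) (not_le.2 ?_)
  have hle : U ⊓ centralizer {h * d} ≤ U ⊓ centralizer {h} := fun u hu =>
    ⟨hu.1, mem_centralizer_singleton_iff.2 (huniq u hu.1 (mem_centralizer_singleton_iff.1 hu.2)).1⟩
  refine lt_of_le_of_ne (card_le_of_le hle) fun he => ?_
  have hv' : v ∈ U ⊓ centralizer {h * d} :=
    (eq_of_le_of_card_ge hle he.ge) ▸ ⟨hv, mem_centralizer_singleton_iff.2 hvh⟩
  have hc := (huniq v hv (mem_centralizer_singleton_iff.1 hv'.2)).2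
  rw [hc, mul_inv_cancel_right] at hvd
  obtain ⟨k, hk⟩ := hF
  refine hd1 (eq_one_of_pow_two_pow (Odd.of_dvd_nat ⟨k, hk⟩ (orderOf_dvd_natCard F hdF)) (n := 1) ?_)
  rw [pow_one, pow_two]
  exact mul_eq_one_iff_eq_inv.2 hvd

end Cfsg.Agent.Lib.QuadPair
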