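import Cfsg.Agent.Lib.QuadPair.Prelim

/-!
In an `S₄`-free solvable group of characteristic two, a subgroup with the squared bound lies in the two-core.
-/

set_option autoImplicit false
open Subgroup
open scoped commutatorElement

namespace Cfsg.Agent.Lib.QuadPair

universe v
variable {H : Type v} [Group H] [Finite H]

/-- The counting inside two conjugates. -/
theorem two_conjugate_bound {L : Subgroup H} {Q TT Zc V T : Subgroup H}
    (hS4 : ¬ Cfsg.Involves (Equiv.Perm (Fin 4)) H)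
    (hVL : V ≤ L) (hTTL : TT ≤ L) (hTV : T ≤ V) (hTTT : T ≤ TT) (hTTQ : TT ≤ Q) (hQp : IsPGroup 2 Q)
    (hZcL : Zc ≤ L) (hZcen : ∀ l ∈ L, ∀ z ∈ Zc, l * z = z * l) (hZT : Zc ≤ TT)
    (hV : Cfsg.IsElementaryAbelian 2 V) (hVZ : V ⊓ Zc ≤ T)
    (hTTn : ∀ l ∈ L, ∀ t ∈ TT, l * t * l⁻¹ ∈ TT)
    (hLQ : ∀ l ∈ L, ∀ q ∈ Q, ⁅l, q⁆ ∈ TT)
    (hTTc : ∀ t ∈ TT, ∀ t' ∈ TT, ⁅t, t'⁆ ∈ Zc) (hTT2 : ∀ t ∈ TT, t ^ 2 ∈ Zc)
    (hQC : centralizer (Q : Set H) ≤ Q) {N : Subgroup H} [N.Normal] [Q.Normal]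
    (hN : Odd (Q.relIndex N))
    (hgen : ∀ v ∈ V, v ∉ T → ∃ w ∈ L, w * w = 1 ∧ v * w ∈ N ∧ v * w ∉ Q) :
    Nat.card V * Nat.card V * Nat.card T * Nat.card Zc ≤
      Nat.card T * Nat.card T * Nat.card TT * Nat.card ↥(T ⊓ Zc) := by
  classical
  haveI : Fact (Nat.Prime 2) := ⟨Nat.prime_two⟩
  let Zs : Subgroup ↥L := Zc.subgroupOf L
  haveI hZn : Zs.Normal := ⟨fun z hz l => by
    show (l : H) * (z : H) * (l : H)⁻¹ ∈ Zc
    rw [hZcen l l.2 z hz, mul_inv_cancel_right]; exact hz⟩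
  let f : ↥L →* ↥L ⧸ Zs := QuotientGroup.mk' Zs
  have hf : Function.Surjective f := QuotientGroup.mk'_surjective _
  have hfker : ∀ l : ↥L, f l = 1 ↔ (l : H) ∈ Zc := fun l => QuotientGroup.eq_one_iff l
  set Y : Subgroup (↥L ⧸ Zs) := (TT.subgroupOf L).map f with hYdef
  have hY : Cfsg.IsElementaryAbelian 2 Y := by
    refine ⟨⟨⟨?_⟩⟩, ?_⟩
    · rintro ⟨_, a, ha, rfl⟩ ⟨_, b, hb, rfl⟩
      refine Subtype.ext ?_
      show f a * f b = f b * f a
      rw [← commutatorElement_eq_one_iff_mul_comm, ← map_commutatorElement, hfker]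
      exact hTTc a ha b hb
    · rintro _ ⟨a, ha, rfl⟩
      rw [← map_pow, hfker]; exact hTT2 a ha
  have hYn : ∀ x, ∀ y ∈ Y, x * y * x⁻¹ ∈ Y := by
    intro x y hy
    obtain ⟨l, rfl⟩ := hf x
    obtain ⟨t, ht, rfl⟩ := hy
    exact ⟨l * t * l⁻¹, hTTn l l.2 t ht, by simp⟩
  have hKY : (⊤ : Subgroup (↥L ⧸ Zs)) ≤ normalizer (Y : Set (↥L ⧸ Zs)) := by
    haveI : Y.Normal := ⟨fun y hy x => hYn x y hy⟩
    rw [normalizer_eq_top]
  have hS4' : ¬ Cfsg.Involves (Equiv.Perm (Fin 4)) ↥(⊤ : Subgroup (↥L ⧸ Zs)) := fun h =>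
    hS4 (Lib.Fusion.involves_mono L.subtype L.subtype_injective
      (involves_of_image f hf (Lib.Fusion.involves_mono (Subgroup.subtype ⊤) (subtype_injective _) h)))
  haveI : Finite (MulAut ↥Y) := Finite.of_injective (fun f => (f : ↥Y → ↥Y)) DFunLike.coe_injective
  let ψ : ↥L →* ↥(img ⊤ Y) := ((conjAdd Y).comp ((inclusion hKY).comp ((Subgroup.topEquiv.symm.toMonoidHom).comp f))).codRestrict _
    fun l => (mem_img hKY).2 ⟨f l, mem_top _, rfl⟩
  have hψs : Function.Surjective ψ := by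
    rintro ⟨_, hi⟩
    obtain ⟨k, -, rfl⟩ := (mem_img hKY).1 hi
    obtain ⟨l, rfl⟩ := hf k
    exact ⟨l, rfl⟩
  have hψ1 : ∀ l : ↥L, ψ l = 1 ↔ ∀ t ∈ TT, ⁅(l : H), t⁆ ∈ Zc := by
    intro l
    rw [Subtype.ext_iff]
    show conjAdd Y ⟨f l, hKY (mem_top _)⟩ = 1 ↔ _
    rw [conjAdd_eq_one, mem_centralizer_iff]
    constructor
    · intro h t ht
      have h' := h (f ⟨t, hTTL ht⟩) ⟨⟨t, hTTL ht⟩, ht, rfl⟩
      have h'' : f ⁅l, (⟨t, hTTL ht⟩ : ↥L)⁆ = 1 := by
        rw [map_commutatorElement, commutatorElement_eq_one_iff_mul_comm]; exact h'.symm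
      exact (hfker _).1 h''
    · rintro h _ ⟨t, ht, rfl⟩
      have h' : f ⁅l, t⁆ = 1 := (hfker _).2 (h t ht)
      rw [map_commutatorElement, commutatorElement_eq_one_iff_mul_comm] at h'
      exact h'.symm
  -- the central two-part
  let Qs : Subgroup ↥L := Q.subgroupOf L
  let Ns : Subgroup ↥L := N.subgroupOf L ⊔ Qs
  have hQcen : ∀ q ∈ Qs, ∀ l : ↥L, ψ q * ψ l = ψ l * ψ q := by
    intro q hq l
    have h1 : ψ ⁅l, q⁆ = 1 := (hψ1 _).2 fun t ht => hTTc _ (hLQ l l.2 q hq) t ht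
    rw [map_commutatorElement, commutatorElement_eq_one_iff_mul_comm] at h1
    exact h1.symm
  set Nimg := Ns.map ψ with hNimg
  set Zimg := Qs.map ψ with hZimg
  have hZN : Zimg ≤ Nimg := map_mono le_sup_right
  have hidx : Odd ((Zimg.subgroupOf Nimg).index) := by
    refine Odd.of_dvd_nat ?_ (Lib.PLength.relIndex_map_dvd ψ (le_sup_right : Qs ≤ Ns))
    refine Odd.of_dvd_nat hN ?_
    show Qs.relIndex (N.subgroupOf L ⊔ Qs) ∣ _
    rw [relIndex_sup_right]
    show (Q.subgroupOf L).relIndex (N.subgroupOf L) ∣ _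
    rw [← inf_subgroupOf_right N L, relIndex_subgroupOf inf_le_right,
      ← relIndex_subgroupOf (H := Q) (inf_le_left : N ⊓ L ≤ N)]
    exact relIndex_dvd_index_of_normal _ _
  have hZp : IsPGroup 2 (Zimg.subgroupOf Nimg) :=
    ((hQp.comap_subtype (K := L)).map ψ).comap_subtype
  haveI : (Zimg.subgroupOf Nimg).Normal := ⟨fun z hz n => by
    show (n : ↥(img ⊤ Y)) * z * (n : ↥(img ⊤ Y))⁻¹ ∈ Zimg
    obtain ⟨q, hq, hqz⟩ := hz
    obtain ⟨l, hl⟩ := hψs (n : ↥(img ⊤ Y))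
    have hqz' : ψ q = ((z : ↥Nimg) : ↥(img ⊤ Y)) := hqz
    rw [← hqz', ← hl, ← hQcen q hq l, mul_inv_cancel_right]
    exact ⟨q, hq, rfl⟩⟩
  obtain ⟨R1, hR1⟩ := exists_right_complement'_of_coprime (N := Zimg.subgroupOf Nimg) (by
    obtain ⟨k, hk⟩ := IsPGroup.iff_card.mp hZp
    rw [hk]; exact Nat.Coprime.pow_left k (Nat.coprime_two_left.2 hidx))
  set R : Subgroup ↥(img ⊤ Y) := R1.map Nimg.subtype with hRdef
  have hRodd : Odd (Nat.card R) := by
    rw [hRdef, card_map_of_injective Nimg.subtype_injective, ← hR1.symm.index_eq_card]; exact hidx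
  have hdec : ∀ x ∈ Nimg, ∃ z ∈ Zimg, ∃ r ∈ R, x = z * r := by
    intro x hx
    obtain ⟨z, hz, r, hr, e⟩ := mem_sup_of_normal_left.1 (hR1.sup_eq_top.symm ▸ mem_top (⟨x, hx⟩ : ↥Nimg))
    exact ⟨z, hz, r, ⟨r, hr, rfl⟩, (congrArg Subtype.val e).symm⟩
  have hoddR : ∀ x ∈ Nimg, Odd (orderOf x) → x ∈ R := by
    intro x hx hodd
    obtain ⟨z, hz, r, hr, rfl⟩ := hdec x hx
    obtain ⟨q, hq, rfl⟩ := hz
    obtain ⟨l, rfl⟩ := hψs r
    have hcz : Commute (ψ q) (ψ l) := hQcen q hq l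
    set m := Nat.card R * orderOf (ψ q * ψ l) with hm
    have hrm : ψ l ^ m = 1 :=
      orderOf_dvd_iff_pow_eq_one.1 ((orderOf_dvd_natCard R hr).trans (Dvd.intro _ rfl))
    have hzm : ψ q ^ m = 1 := by
      have h1 : (ψ q * ψ l) ^ m = 1 := orderOf_dvd_iff_pow_eq_one.1 (Dvd.intro_left _ rfl)
      rwa [hcz.mul_pow, hrm, mul_one] at h1
    obtain ⟨k, hk⟩ := hQp ⟨q, hq⟩
    have hk' : q ^ (2 ^ k) = 1 := Subtype.ext (by simpa using congrArg Subtype.val hk)
    have hz1 : ψ q = 1 := eq_one_of_pow_two_pow ((hRodd.mul hodd).of_dvd_nat (orderOf_dvd_of_pow_eq_one hzm))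
      (n := k) (by rw [← map_pow, hk', map_one])
    rw [hz1, one_mul]; exact hr
  have hRN : R ≤ Nimg := map_subtype_le _
  have hRnorm : ∀ i r : ↥(img ⊤ Y), r ∈ R → i * r * i⁻¹ ∈ R := by
    intro i r hr
    obtain ⟨l, rfl⟩ := hψs i
    refine hoddR _ ?_ ?_
    · obtain ⟨n, hn, rfl⟩ := hRN hr
      haveI : Ns.Normal := inferInstance
      exact ⟨l * n * l⁻¹, Normal.conj_mem inferInstance n hn l, by simp⟩
    · rw [← MulAut.conj_apply, show (MulAut.conj (ψ l)) r = (MulAut.conj (ψ l)).toMonoidHom r from rfl,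
        orderOf_injective _ (MulAut.conj (ψ l)).injective]
      exact hRodd.of_dvd_nat (orderOf_dvd_natCard R hr)
  -- elements of `V` centralising `R` lie in `T`
  have hfree : ∀ v : ↥L, (v : H) ∈ V → ψ v ∈ centralizer (R : Set ↥(img ⊤ Y)) → (v : H) ∈ T := by
    intro v hv hvR
    by_contra hvT
    obtain ⟨w, hwL, hw, hvwN, hvwQ⟩ := hgen v hv hvT
    set g : ↥L := v * ⟨w, hwL⟩ with hg
    have hgN : g ∈ Ns := mem_sup_left (show (g : H) ∈ N from hvwN)
    obtain ⟨z, hz, r, hr, e⟩ := hdec (ψ g) ⟨g, hgN, rfl⟩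
    obtain ⟨q, hq, rfl⟩ := hz
    have hc : ψ v * ψ g = ψ g * ψ v := by
      rw [e, ← mul_assoc, ← hQcen q hq v, mul_assoc, ← mem_centralizer_iff.1 hvR r hr, mul_assoc]
    have hvv : v * v = 1 := Subtype.ext (elementary_pgroup hV hv)
    have hinv : v * g * v = g⁻¹ := by
      have hwv : (⟨w, hwL⟩ : ↥L)⁻¹ = ⟨w, hwL⟩ := inv_eq_of_mul_eq_one_right (Subtype.ext hw)
      rw [hg, mul_inv_rev, hwv, inv_eq_of_mul_eq_one_right hvv, ← mul_assoc, hvv, one_mul]
    have hsq : ψ g ^ 2 = 1 := by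
      have h1 := congrArg ψ hinv
      rw [map_mul, map_mul, hc, mul_assoc, ← map_mul ψ v v, hvv, map_one, mul_one, map_inv] at h1
      rw [pow_two]; exact mul_eq_one_iff_eq_inv.2 h1
    obtain ⟨b, hb, hodd⟩ := exists_odd_pow g
    set g0 := g ^ (2 ^ b) with hg0
    have hψg0 : ψ g0 = 1 := by
      rw [map_pow, ← Nat.succ_pred_eq_of_pos hb, pow_succ', pow_mul, hsq, one_pow]
    have hodd' : Odd (orderOf (g0 : H)) := by rwa [Subgroup.orderOf_coe]
    have hTTp : IsPGroup 2 TT := hQp.to_le hTTQ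
    have hfixTT : ∀ t ∈ TT, (g0 : H) * t = t * (g0 : H) := by
      intro t ht
      have hz := (hψ1 g0).1 hψg0 t ht
      obtain ⟨k, hk⟩ := hTTp ⟨_, hZT hz⟩
      exact fix_of_stable hodd' (by rw [commutatorElement_def, inv_mul_cancel_right]) (hZcen _ g0.2 _ hz)
        (congrArg Subtype.val hk)
    have hg0Q : (g0 : H) ∈ Q := hQC (mem_centralizer_iff.2 fun x hx => (by
      have hz := hLQ _ g0.2 x hx
      obtain ⟨k, hk⟩ := hTTp ⟨_, hz⟩
      exact (fix_of_stable hodd' (by rw [commutatorElement_def, inv_mul_cancel_right]) (hfixTT _ hz)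
        (congrArg Subtype.val hk)).symm))
    -- so `g` maps to a `2`-element of the odd factor
    apply hvwQ
    have hgN' : (g : H) ∈ N := hvwN
    have hcop : Nat.Coprime (2 ^ b) (Q.relIndex N) := Nat.Coprime.pow_left b (Nat.coprime_two_left.2 hN)
    have hm : (g : H) ^ (Q.relIndex N) ∈ Q := by
      have h := Subgroup.pow_index_mem (Q.subgroupOf N) (⟨_, hgN'⟩ : N)
      exact h
    have hb' : (g : H) ^ (2 ^ b) ∈ Q := by rw [hg0] at hg0Q; simpa using hg0Q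
    have hgcd : (g : H) ^ (Nat.gcd (2 ^ b) (Q.relIndex N)) ∈ Q := by
      rw [← zpow_natCast, Nat.gcd_eq_gcd_ab, zpow_add, zpow_mul, zpow_mul, zpow_natCast, zpow_natCast]
      exact mul_mem (zpow_mem hb' _) (zpow_mem hm _)
    rw [hcop, pow_one] at hgcd
    exact hgcd
  -- apply the bound
  set D : Subgroup (↥L ⧸ Zs) := (V.subgroupOf L).map f with hDdef
  have hDsq : ∀ d ∈ D, d ^ 2 ∈ centralizer (Y : Set (↥L ⧸ Zs)) := by
    rintro _ ⟨a, ha, rfl⟩
    rw [← map_pow, show a ^ 2 = 1 from Subtype.ext (by rw [SubmonoidClass.coe_pow]; exact hV.2 _ ha), map_one]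
    exact one_mem _
  have hDcom : ∀ d ∈ D, ∀ d' ∈ D, ⁅d, d'⁆ ∈ centralizer (Y : Set (↥L ⧸ Zs)) := by
    rintro _ ⟨a, ha, rfl⟩ _ ⟨b, hb, rfl⟩
    rw [← map_commutatorElement, commutatorElement_eq_one_iff_mul_comm.2
      (Subtype.ext (Lib.Thompson.commute_of_elementary hV ha hb)), map_one]
    exact one_mem _
  have htriv : ∀ t : ↥L, (t : H) ∈ TT → f t ∈ centralizer (Y : Set (↥L ⧸ Zs)) := fun t ht =>
    mem_centralizer_iff.2 fun y hy => (Lib.Thompson.commute_of_elementary hY hy ⟨t, ht, rfl⟩)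
  have hb := bound_img hY le_top hKY hS4' (R := R) hRodd (D := D) le_top hDsq hDcom
    (fun d hd => mem_normalizer_iff.2 fun r => ⟨hRnorm _ r, fun h => by
      have := hRnorm (⟨conjAdd Y ⟨d, hKY (mem_top _)⟩, (mem_img hKY).2 ⟨d, mem_top _, rfl⟩⟩ : ↥(img ⊤ Y))⁻¹ _ h
      simpa [mul_assoc] using this⟩)
    (fun d hd hdR => by
      obtain ⟨a, ha, rfl⟩ := hd
      exact htriv a (hTTT (hfree a ha hdR)))
  have hDT : D ⊓ centralizer (Y : Set (↥L ⧸ Zs)) ≤ (T.subgroupOf L).map f := by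
    rintro _ ⟨⟨a, ha, rfl⟩, hc⟩
    refine ⟨a, hfree a ha ?_, rfl⟩
    have h1 : ψ a = 1 := Subtype.ext ((conjAdd_eq_one Y ⟨f a, hKY (mem_top _)⟩).2 hc)
    rw [h1]; exact one_mem _
  have hTD : (T.subgroupOf L).map f ≤ Y ⊓ centralizer (D : Set (↥L ⧸ Zs)) := by
    rintro _ ⟨a, ha, rfl⟩
    refine ⟨⟨a, hTTT ha, rfl⟩, mem_centralizer_iff.2 ?_⟩
    rintro _ ⟨b, hb, rfl⟩
    rw [← map_mul, ← map_mul]
    exact congrArg f (Subtype.ext (Lib.Thompson.commute_of_elementary hV hb (hTV ha)))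
  have hcount : ∀ A : Subgroup H, A ≤ L →
      Nat.card ((A.subgroupOf L).map f) * Nat.card ↥(A ⊓ Zc) = Nat.card A := by
    intro A hA
    have h := card_map_mul_card_inf_ker f (A.subgroupOf L)
    rw [QuotientGroup.ker_mk', Nat.card_congr (subgroupOfEquivOfLe hA).toEquiv] at h
    rw [← h]
    congr 1
    exact Nat.card_congr
      { toFun := fun a => ⟨⟨a, hA a.2.1⟩, a.2.1, a.2.2⟩
        invFun := fun a => ⟨((a : ↥L) : H), a.2.1, a.2.2⟩
        left_inv := fun _ => rfl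
        right_inv := fun _ => rfl }
  have hVd : Nat.card D * Nat.card ↥(V ⊓ Zc) = Nat.card V := hcount V hVL
  have hTd : Nat.card ((T.subgroupOf L).map f) * Nat.card ↥(T ⊓ Zc) = Nat.card T := hcount T (hTV.trans hVL)
  have hTTd : Nat.card Y * Nat.card ↥(TT ⊓ Zc) = Nat.card TT := hcount TT hTTL
  rw [inf_eq_right.2 hZT] at hTTd
  rw [show V ⊓ Zc = T ⊓ Zc from le_antisymm (le_inf hVZ inf_le_right) (inf_le_inf_right _ hTV)] at hVd
  have h1 := card_le_of_le hDT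
  have h2 := card_le_of_le hTD
  set d := Nat.card D
  set t := Nat.card ((T.subgroupOf L).map f)
  set i := Nat.card ↥(T ⊓ Zc)
  set y := Nat.card Y
  set z := Nat.card Zc
  have key : d * d * t ≤ t * t * y :=
    calc d * d * t ≤ d * d * Nat.card ↥(Y ⊓ centralizer (D : Set (↥L ⧸ Zs))) := Nat.mul_le_mul_left _ h2
      _ ≤ _ := hb
      _ ≤ t * t * y := Nat.mul_le_mul_right _ (Nat.mul_le_mul h1 h1)
  rw [← hVd, ← hTd, ← hTTd]
  calc d * i * (d * i) * (t * i) * z = d * d * t * (i * i * i * z) := by ring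
    _ ≤ t * t * y * (i * i * i * z) := Nat.mul_le_mul_right _ key
    _ = _ := by ring

/-- A subgroup with the squared bound lies in the two-core. -/
theorem le_pCore_of_bound (hsol : Group.IsSolvable H)
    (hC : centralizer (Cfsg.pCore 2 H : Set H) ≤ Cfsg.pCore 2 H)
    (hS4 : ¬ Cfsg.Involves (Equiv.Perm (Fin 4)) H) {V : Subgroup H} (hV : Cfsg.IsElementaryAbelian 2 V)
    (hQV : Cfsg.pCore 2 H ≤ normalizer (V : Set H)) (hP : PBound V) : V ≤ Cfsg.pCore 2 H := by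
  classical
  haveI : Fact (Nat.Prime 2) := ⟨Nat.prime_two⟩
  set Q := Cfsg.pCore 2 H with hQdef
  haveI hQn : Q.Normal := Lib.Hall.pCore_normal _
  have hQp : IsPGroup 2 Q := Lib.Hall.isPGroup_pCore 2
  let π := QuotientGroup.mk' Q
  have hπs : Function.Surjective π := QuotientGroup.mk'_surjective _
  have hπ1 : ∀ x, π x = 1 ↔ x ∈ Q := fun x => QuotientGroup.eq_one_iff x
  haveI : Group.IsSolvable (H ⧸ Q) := Group.isSolvable_of_surjective hπs
  set F := Cfsg.pPrimeCore 2 (H ⧸ Q) with hFdef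
  haveI hFn : F.Normal := Lib.Hall.pPrimeCore_normal 2
  have hFodd : Odd (Nat.card F) := Nat.coprime_two_right.1 (Lib.Hall.coprime_card_pPrimeCore 2)
  have hU := Lib.Thompson.isElementaryAbelian_map π hV
  have hUF : V.map π ⊓ centralizer (F : Set (H ⧸ Q)) = ⊥ := by
    rw [eq_bot_iff]
    rintro u ⟨hu, huc⟩
    have huF : u ∈ F := centralizer_pPrimeCore_le Lib.PLength.pCore_quotient_pCore_eq_bot huc
    exact mem_bot.2 (eq_one_of_pow_two_pow (hFodd.of_dvd_nat (orderOf_dvd_natCard F huF)) (n := 1)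
      (by rw [pow_one]; exact hU.2 u hu))
  obtain ⟨hbar, hhF, hreg⟩ := exists_regular hFodd hU hUF
  obtain ⟨h, rfl⟩ := hπs hbar
  set V' := cj h V with hV'def
  have hV' : Cfsg.IsElementaryAbelian 2 V' := elementary_cj hV h
  have hQV' : Q ≤ normalizer (V' : Set H) := by
    intro q hq
    rw [mem_normalizer_iff]
    intro x
    rw [hV'def, mem_cj, mem_cj, mem_normalizer_iff.1 (hQV (Normal.conj_mem' hQn q hq h)) (h⁻¹ * x * h)]
    rw [show h⁻¹ * q * h * (h⁻¹ * x * h) * (h⁻¹ * q * h)⁻¹ = h⁻¹ * (q * x * q⁻¹) * h by group]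
  set T := V ⊓ Q with hT
  set T' := V' ⊓ Q with hT'
  have hTn : Q ≤ normalizer (T : Set H) := fun q hq =>
    inf_normalizer_le_normalizer_inf ⟨hQV hq, by rw [normalizer_eq_top]; exact mem_top _⟩
  have hT'n : Q ≤ normalizer (T' : Set H) := fun q hq =>
    inf_normalizer_le_normalizer_inf ⟨hQV' hq, by rw [normalizer_eq_top]; exact mem_top _⟩
  set L := V ⊔ V' with hL
  set TT := T ⊔ T' with hTT
  have hTTQ : TT ≤ Q := sup_le inf_le_right inf_le_right
  have hcV : ∀ v ∈ V, ∀ q ∈ Q, ⁅v, q⁆ ∈ T := fun v hv q hq => by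
    refine mem_inf.2 ⟨?_, ?_⟩
    · rw [commutatorElement_def, show v * q * v⁻¹ * q⁻¹ = v * (q * v⁻¹ * q⁻¹) by group]
      exact mul_mem hv ((mem_normalizer_iff.1 (hQV hq) v⁻¹).1 (inv_mem hv))
    · rw [commutatorElement_def]; exact mul_mem (hQn.conj_mem q hq v) (inv_mem hq)
  have hcV' : ∀ v ∈ V', ∀ q ∈ Q, ⁅v, q⁆ ∈ T' := fun v hv q hq => by
    refine mem_inf.2 ⟨?_, ?_⟩
    · rw [commutatorElement_def, show v * q * v⁻¹ * q⁻¹ = v * (q * v⁻¹ * q⁻¹) by group]
      exact mul_mem hv ((mem_normalizer_iff.1 (hQV' hq) v⁻¹).1 (inv_mem hv))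
    · rw [commutatorElement_def]; exact mul_mem (hQn.conj_mem q hq v) (inv_mem hq)
  have hTTn : ∀ l ∈ L, ∀ t ∈ TT, l * t * l⁻¹ ∈ TT := by
    intro l hl
    refine sup_induction (p := fun l => ∀ t ∈ TT, l * t * l⁻¹ ∈ TT) ?_ ?_ ?_ hl
    · intro v hv t ht
      rw [show v * t * v⁻¹ = ⁅v, t⁆ * t by rw [commutatorElement_def, inv_mul_cancel_right]]
      exact mul_mem (mem_sup_left (hcV v hv t (hTTQ ht))) ht
    · intro v hv t ht
      rw [show v * t * v⁻¹ = ⁅v, t⁆ * t by rw [commutatorElement_def, inv_mul_cancel_right]]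
      exact mul_mem (mem_sup_right (hcV' v hv t (hTTQ ht))) ht
    · intro a b _ _ ha hb t ht
      rw [show a * b * t * (a * b)⁻¹ = a * (b * t * b⁻¹) * a⁻¹ by group]
      exact ha _ (hb t ht)
  have hLQ : ∀ l ∈ L, ∀ q ∈ Q, ⁅l, q⁆ ∈ TT := by
    intro l hl
    refine sup_induction (p := fun l => ∀ q ∈ Q, ⁅l, q⁆ ∈ TT) (fun v hv q hq => mem_sup_left (hcV v hv q hq))
      (fun v hv q hq => mem_sup_right (hcV' v hv q hq)) ?_ hl
    intro a b haL _ ha hb q hq
    rw [show ⁅a * b, q⁆ = a * ⁅b, q⁆ * a⁻¹ * ⁅a, q⁆ by simp only [commutatorElement_def]; group]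
    exact mul_mem (hTTn a haL _ (hb q hq)) (ha q hq)
  set Z := T ⊓ centralizer (V' : Set H) with hZ
  set Z' := T' ⊓ centralizer (V : Set H) with hZ'
  set Zc := Z ⊔ Z' with hZc
  have hcomV : ∀ a ∈ V, ∀ b ∈ V, a * b = b * a := fun a ha b hb => Lib.Thompson.commute_of_elementary hV ha hb
  have hcomV' : ∀ a ∈ V', ∀ b ∈ V', a * b = b * a := fun a ha b hb => Lib.Thompson.commute_of_elementary hV' ha hb
  have hZcen : ∀ l ∈ L, ∀ z ∈ Zc, l * z = z * l := by
    have h1 : Z ≤ centralizer (L : Set H) := by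
      rw [le_centralizer_iff]
      exact sup_le (fun v hv => mem_centralizer_iff.2 fun z hz => hcomV z hz.1.1 v hv)
        (fun v hv => mem_centralizer_iff.2 fun z hz => (mem_centralizer_iff.1 hz.2 v hv).symm)
    have h2 : Z' ≤ centralizer (L : Set H) := by
      rw [le_centralizer_iff]
      exact sup_le (fun v hv => mem_centralizer_iff.2 fun z hz => (mem_centralizer_iff.1 hz.2 v hv).symm)
        (fun v hv => mem_centralizer_iff.2 fun z hz => hcomV' z hz.1.1 v hv)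
    exact fun l hl z hz => mem_centralizer_iff.1 ((sup_le h1 h2) hz) l hl
  have hint : T ⊓ T' ≤ Z := fun x hx => ⟨hx.1, mem_centralizer_iff.2 fun v hv => hcomV' v hv x hx.2.1⟩
  have hint' : T ⊓ T' ≤ Z' := fun x hx => ⟨hx.2, mem_centralizer_iff.2 fun v hv => hcomV v hv x hx.1.1⟩
  have hTnT' : T ≤ normalizer (T' : Set H) := fun x hx => hT'n hx.2
  have hmem : ∀ x ∈ TT, ∃ a ∈ T, ∃ b ∈ T', x = a * b := by
    intro x hx
    rw [hTT, ← SetLike.mem_coe, coe_mul_of_left_le_normalizer_right _ _ hTnT'] at hx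
    obtain ⟨a, ha, b, hb, e⟩ := hx
    exact ⟨a, ha, b, hb, e.symm⟩
  have hab : ∀ a ∈ T, ∀ b ∈ T', ⁅a, b⁆ ∈ Zc := fun a ha b hb => mem_sup_left (hint
    (mem_inf.2 ⟨hcV a ha.1 b hb.2, by
      rw [commutatorElement_def]
      exact mul_mem ((mem_normalizer_iff.1 (hT'n ha.2) b).1 hb) (inv_mem hb)⟩))
  have hTTc : ∀ t ∈ TT, ∀ t' ∈ TT, ⁅t, t'⁆ ∈ Zc := by
    have hTL : TT ≤ L := sup_le (inf_le_left.trans le_sup_left) (inf_le_left.trans le_sup_right)
    let Zs : Subgroup ↥L := Zc.subgroupOf L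
    haveI hZn : Zs.Normal := ⟨fun z hz l => by
      show (l : H) * (z : H) * (l : H)⁻¹ ∈ Zc
      rw [hZcen l l.2 z hz, mul_inv_cancel_right]; exact hz⟩
    intro t ht t' ht'
    obtain ⟨a, ha, b, hb, rfl⟩ := hmem t ht
    obtain ⟨c, hc, d, hd, rfl⟩ := hmem t' ht'
    let f := QuotientGroup.mk' Zs
    let m : ∀ x, x ∈ TT → ↥L ⧸ Zs := fun x hx => f ⟨x, hTL hx⟩
    have hcomm : ∀ x hx y hy, ⁅x, y⁆ ∈ Zc → Commute (m x hx) (m y hy) := fun x hx y hy h => by
      show m x hx * m y hy = m y hy * m x hx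
      rw [← commutatorElement_eq_one_iff_mul_comm, ← map_commutatorElement]
      exact (QuotientGroup.eq_one_iff _).2 h
    have hz : ∀ {x y : H}, x * y = y * x → ⁅x, y⁆ ∈ Zc := fun h => by
      rw [commutatorElement_eq_one_iff_mul_comm.2 h]; exact one_mem _
    have hba : ∀ x ∈ T, ∀ y ∈ T', ⁅y, x⁆ ∈ Zc := fun x hx y hy => by
      rw [← commutatorElement_inv]; exact inv_mem (hab x hx y hy)
    have key : Commute (m a (mem_sup_left ha) * m b (mem_sup_right hb)) (m c (mem_sup_left hc) * m d (mem_sup_right hd)) :=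
      (((hcomm a (mem_sup_left ha) c (mem_sup_left hc) (hz (hcomV a ha.1 c hc.1))).mul_right
          (hcomm a (mem_sup_left ha) d (mem_sup_right hd) (hab a ha d hd))).mul_left
        ((hcomm b (mem_sup_right hb) c (mem_sup_left hc) (hba c hc b hb)).mul_right
          (hcomm b (mem_sup_right hb) d (mem_sup_right hd) (hz (hcomV' b hb.1 d hd.1)))))
    have h := commutatorElement_eq_one_iff_mul_comm.2 key.eq
    rw [← map_mul, ← map_mul, ← map_commutatorElement] at h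
    exact ((QuotientGroup.eq_one_iff (N := Zs) _).1 h : _ ∈ Zs)
  have hTT2 : ∀ t ∈ TT, t ^ 2 ∈ Zc := by
    intro t ht
    obtain ⟨a, ha, b, hb, rfl⟩ := hmem t ht
    have e : (a * b) ^ 2 = ⁅a, b⁆ := by
      rw [commutatorElement_def, inv_eq_of_mul_eq_one_right (elementary_pgroup hV ha.1),
        inv_eq_of_mul_eq_one_right (elementary_pgroup hV' hb.1), pow_two]; group
    rw [e]; exact hab a ha b hb
  haveI hNn : (F.comap π).Normal := inferInstance
  have hN : Odd (Q.relIndex (F.comap π)) := by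
    have h1 : π.ker.relIndex (F.comap π) = Nat.card F := by
      rw [relIndex_ker, map_comap_eq_self_of_surjective hπs]
    rw [QuotientGroup.ker_mk'] at h1
    rw [h1]; exact hFodd
  have hZcQ : Zc ≤ Q := sup_le (inf_le_left.trans inf_le_right) (inf_le_left.trans inf_le_right)
  have hb := two_conjugate_bound (L := L) (Q := Q) (TT := TT) (Zc := Zc) (V := V) (T := T) hS4 le_sup_left
    (sup_le (inf_le_left.trans le_sup_left) (inf_le_left.trans le_sup_right)) inf_le_left le_sup_left hTTQ hQp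
    (sup_le (inf_le_left.trans (inf_le_left.trans le_sup_left)) (inf_le_left.trans (inf_le_left.trans le_sup_right)))
    hZcen (sup_le (inf_le_left.trans le_sup_left) (inf_le_left.trans le_sup_right)) hV
    (le_inf inf_le_left (inf_le_right.trans hZcQ)) hTTn hLQ hTTc hTT2 hC (N := F.comap π) hN (by
      intro v hv hvT
      have hv2 := elementary_pgroup hV hv
      refine ⟨h * v * h⁻¹, mem_sup_right ⟨v, hv, rfl⟩, by
        rw [show h * v * h⁻¹ * (h * v * h⁻¹) = h * (v * v) * h⁻¹ by group, hv2, mul_one, mul_inv_cancel], ?_, ?_⟩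
      · show π (v * (h * v * h⁻¹)) ∈ F
        have e : π (v * (h * v * h⁻¹)) = (π v * π h * (π v)⁻¹) * (π h)⁻¹ := by
          rw [← map_inv π v, inv_eq_of_mul_eq_one_right hv2]; simp [mul_assoc]
        rw [e]; exact mul_mem (hFn.conj_mem _ hhF _) (inv_mem hhF)
      · intro hc
        refine hvT ⟨hv, (hπ1 v).1 (hreg _ ⟨v, hv, rfl⟩ ?_)⟩
        have h1 : π v * (π h * π v * (π h)⁻¹) = 1 := by simpa using (hπ1 _).2 hc
        have h2 : π v * π v = 1 := by rw [← map_mul, hv2, map_one]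
        rw [← h2, mul_right_inj, mul_inv_eq_iff_eq_mul] at h1
        exact h1.symm)
  -- counting
  have hTc : T ⊓ Zc = Z := by
    refine le_antisymm ?_ (le_inf inf_le_left le_sup_left)
    rintro x ⟨hx, hxz⟩
    exact ⟨hx, mem_centralizer_iff.2 fun v hv => hZcen v (mem_sup_right hv) x hxz⟩
  rw [hTc] at hb
  have hcTT : Nat.card TT * Nat.card ↥(T ⊓ T') = Nat.card T * Nat.card T' :=
    Lib.Coprime.card_sup_mul_card_inf_of_le_normalizer hTnT'
  have hcZc : Nat.card Zc * Nat.card ↥(T ⊓ T') = Nat.card Z * Nat.card Z' := by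
    have e : Z ⊓ Z' = T ⊓ T' := le_antisymm (inf_le_inf inf_le_left inf_le_left) (le_inf hint hint')
    rw [← e]
    exact Lib.Coprime.card_sup_mul_card_inf_of_le_normalizer fun x hx =>
      centralizer_le_normalizer _ (mem_centralizer_iff.2 fun z hz =>
        (hZcen z (mem_sup_right hz.1.1) x (mem_sup_left hx)))
  have hTT' : Nat.card T' = Nat.card T := by
    rw [← card_cj h T]
    congr 2
    rw [hT, hT', hV'def]
    ext x
    simp only [mem_inf, mem_cj]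
    exact and_congr_right' ⟨fun hx => hQn.conj_mem' x hx h, fun hx => by
      simpa [mul_assoc] using hQn.conj_mem _ hx h⟩
  have hb2 := hP 1 T' (by rw [cj_one]; exact fun x hx => hQV hx.2)
    (fun d hd => by rw [hV'.2 d hd.1]; exact one_mem _)
    (fun d hd d' hd' => by rw [commutatorElement_eq_one_iff_mul_comm.2 (hcomV' d hd.1 d' hd'.1)]; exact one_mem _)
  rw [cj_one] at hb2
  have hb3 := hP h T (fun x hx => hQV' hx.2)
    (fun d hd => by rw [hV.2 d hd.1]; exact one_mem _)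
    (fun d hd d' hd' => by rw [commutatorElement_eq_one_iff_mul_comm.2 (hcomV d hd.1 d' hd'.1)]; exact one_mem _)
  have hz2 : Z ≤ V ⊓ centralizer (T' : Set H) :=
    le_inf (inf_le_left.trans inf_le_left) (inf_le_right.trans (centralizer_le (fun x hx => hx.1)))
  have hz3 : Z' ≤ cj h V ⊓ centralizer (T : Set H) :=
    le_inf (inf_le_left.trans inf_le_left) (inf_le_right.trans (centralizer_le (fun x hx => hx.1)))
  set τ := Nat.card T with hτ
  set n := Nat.card V with hn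
  set z := Nat.card Z with hz
  set z' := Nat.card Z' with hz'
  set e := Nat.card ↥(T ⊓ T')
  have i2 : τ * τ * z ≤ z' * z' * n := by
    rw [hTT'] at hb2
    exact (Nat.mul_le_mul_left _ (card_le_of_le hz2)).trans hb2
  have i3 : τ * τ * z' ≤ z * z * n := by
    rw [card_cj] at hb3
    exact (Nat.mul_le_mul_left _ (card_le_of_le hz3)).trans hb3
  have hzp : 0 < z := Nat.card_pos
  have hz'p : 0 < z' := Nat.card_pos
  have hτp : 0 < τ := Nat.card_pos
  have hnp : 0 < n := Nat.card_pos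
  have i1 : n * n * z' ≤ τ * τ * τ := by
    refine Nat.le_of_mul_le_mul_right (c := τ * z) ?_ (Nat.mul_pos hτp hzp)
    have h1 := Nat.mul_le_mul_right e hb
    calc n * n * z' * (τ * z) = n * n * τ * (z * z') := by ring
      _ = n * n * τ * Nat.card Zc * e := by rw [← hcZc]; ring
      _ ≤ τ * τ * Nat.card TT * z * e := h1
      _ = τ * τ * (Nat.card TT * e) * z := by ring
      _ = τ * τ * τ * (τ * z) := by rw [hcTT, hTT']; ring
  have i4 : τ * τ ≤ z' * n := by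
    by_contra hlt; push Not at hlt
    have h1 : (τ * τ * z) * (τ * τ * z) * (τ * τ * z') ≤ (z' * z' * n) * (z' * z' * n) * (z * z * n) :=
      Nat.mul_le_mul (Nat.mul_le_mul i2 i2) i3
    have h2 : (z' * n) ^ 3 < (τ * τ) ^ 3 := Nat.pow_lt_pow_left hlt (by norm_num)
    have h3 : (z' * n) ^ 3 * (z * z * z') < (τ * τ) ^ 3 * (z * z * z') :=
      Nat.mul_lt_mul_of_pos_right h2 (Nat.mul_pos (Nat.mul_pos hzp hzp) hz'p)
    nlinarith
  have i5 : n ≤ τ := by
    refine Nat.le_of_mul_le_mul_right (c := n * (τ * τ)) ?_ (Nat.mul_pos hnp (Nat.mul_pos hτp hτp))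
    calc n * (n * (τ * τ)) ≤ n * (n * (z' * n)) := by gcongr
      _ = n * n * z' * n := by ring
      _ ≤ τ * τ * τ * n := Nat.mul_le_mul_right _ i1
      _ = _ := by ring
  exact inf_eq_left.1 (eq_of_le_of_card_ge (inf_le_left : T ≤ V) i5)

end Cfsg.Agent.Lib.QuadPair
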