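import Cfsg.Agent.Lib.QuadPair.Step1
import Cfsg.Agent.Lib.QuadPair.Kernel

/-!
In an `S₄`-free solvable group of characteristic two a subgroup with the squared bound, centralised by
the Thompson subgroup, is normal.
-/

set_option autoImplicit false
open Subgroup
open scoped commutatorElement

namespace Cfsg.Agent.Lib.QuadPair

universe v
variable {H : Type v} [Group H] [Finite H]

theorem cj_le_normalizer {N V : Subgroup H} [N.Normal] (h : N ≤ normalizer (V : Set H)) (g : H) :
    N ≤ normalizer (cj g V : Set H) := by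
  intro n hn
  rw [mem_normalizer_iff]
  intro x
  rw [mem_cj, mem_cj, mem_normalizer_iff.1 (h (Normal.conj_mem' inferInstance n hn g)) (g⁻¹ * x * g)]
  rw [show g⁻¹ * n * g * (g⁻¹ * x * g) * (g⁻¹ * n * g)⁻¹ = g⁻¹ * (n * x * n⁻¹) * g by group]

/-- Conjugates with the squared bound inside the two-core commute. -/
theorem cj_commute {V : Subgroup H} (hV : Cfsg.IsElementaryAbelian 2 V) (hP : PBound V)
    (hVQ : V ≤ Cfsg.pCore 2 H) (hQV : Cfsg.pCore 2 H ≤ normalizer (V : Set H)) (a b : H) :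
    cj a V ≤ centralizer (cj b V : Set H) := by
  haveI : Fact (Nat.Prime 2) := ⟨Nat.prime_two⟩
  haveI hQn : (Cfsg.pCore 2 H).Normal := Lib.Hall.pCore_normal _
  have hcQ : ∀ g, cj g V ≤ Cfsg.pCore 2 H := fun g x hx => by
    have h := hQn.conj_mem _ (hVQ (mem_cj.1 hx)) g
    simpa [mul_assoc] using h
  have one : ∀ a b : H, Nat.card V * Nat.card V * Nat.card ↥(cj b V ⊓ centralizer (cj a V : Set H)) ≤
      Nat.card ↥(cj a V ⊓ centralizer (cj b V : Set H)) * Nat.card ↥(cj a V ⊓ centralizer (cj b V : Set H)) *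
        Nat.card V := by
    intro a b
    have h := hP b (cj a V) ((hcQ a).trans (cj_le_normalizer hQV b))
      (fun d hd => by rw [(elementary_cj hV a).2 d hd]; exact one_mem _)
      (fun d hd d' hd' => by
        rw [commutatorElement_eq_one_iff_mul_comm.2 (Lib.Thompson.commute_of_elementary (elementary_cj hV a) hd hd')]
        exact one_mem _)
    simpa only [card_cj] using h
  have h1 := one a b
  have h2 := one b a
  set n := Nat.card V
  set u := Nat.card ↥(cj a V ⊓ centralizer (cj b V : Set H))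
  set u' := Nat.card ↥(cj b V ⊓ centralizer (cj a V : Set H))
  have hn : 0 < n := Nat.card_pos
  have hu : 0 < u := Nat.card_pos
  have hu' : 0 < u' := Nat.card_pos
  have hle' : u' ≤ n := (card_le_of_le inf_le_left).trans (card_cj b V).le
  have h3 : n * u' ≤ u * u := Nat.le_of_mul_le_mul_right (by linarith [show n * n * u' = n * u' * n by ring]) hn
  have h4 : n * u ≤ u' * u' := Nat.le_of_mul_le_mul_right (by linarith [show n * n * u = n * u * n by ring]) hn
  have h5 : n ≤ u := by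
    by_contra hlt; push Not at hlt
    have h6 : u * u < n * u := Nat.mul_lt_mul_of_pos_right hlt hu
    have h7 : u' * u' ≤ n * u' := Nat.mul_le_mul_right _ hle'
    omega
  exact inf_eq_left.1 (eq_of_le_of_card_ge inf_le_left ((card_cj a V).le.trans h5))

/-- The squared bound for a group normalising all conjugates. -/
theorem bound_closure {V W : Subgroup H} (hW : Cfsg.IsElementaryAbelian 2 W) (hP : PBound V)
    (hle : ∀ g, cj g V ≤ W) (hge : ∀ C : Subgroup H, (∀ g, cj g V ≤ C) → W ≤ C) :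
    ∀ D : Subgroup H, (∀ g, D ≤ normalizer (cj g V : Set H)) → (∀ d ∈ D, d ^ 2 ∈ centralizer (W : Set H)) →
      (∀ d ∈ D, ∀ d' ∈ D, ⁅d, d'⁆ ∈ centralizer (W : Set H)) →
      Nat.card D * Nat.card D * Nat.card ↥(W ⊓ centralizer (D : Set H)) ≤
        Nat.card ↥(D ⊓ centralizer (W : Set H)) * Nat.card ↥(D ⊓ centralizer (W : Set H)) * Nat.card W := by
  intro D
  induction D using WellFoundedLT.induction with
  | _ D ih =>
  intro hnorm hsq hcom
  by_cases hDW : D ≤ centralizer (W : Set H)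
  · rw [inf_eq_left.2 hDW]
    exact Nat.mul_le_mul_left _ (card_le_of_le inf_le_left)
  obtain ⟨g, hg⟩ : ∃ g, ¬ D ≤ centralizer (cj g V : Set H) := by
    by_contra h; push Not at h
    exact hDW (le_centralizer_iff.1 (hge _ fun g => le_centralizer_iff.1 (h g)))
  set U := cj g V with hU
  have hCU : centralizer (W : Set H) ≤ centralizer (U : Set H) := centralizer_le (hle g)
  set D0 := D ⊓ centralizer (U : Set H) with hD0
  have hlt : D0 < D := lt_of_le_of_ne inf_le_left fun e => hg (e ▸ inf_le_right)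
  have h1 := hP g D (hnorm g) (fun d hd => hCU (hsq d hd)) (fun d hd d' hd' => hCU (hcom d hd d' hd'))
  have h2 := ih D0 hlt (fun g => hlt.le.trans (hnorm g)) (fun d hd => hsq d (hlt.le hd))
    (fun d hd d' hd' => hcom d (hlt.le hd) d' (hlt.le hd'))
  rw [show D0 ⊓ centralizer (W : Set H) = D ⊓ centralizer (W : Set H) from
    le_antisymm (inf_le_inf_right _ hlt.le) (le_inf (le_inf inf_le_left (inf_le_right.trans hCU)) inf_le_right)] at h2
  have hsup : U ⊔ (W ⊓ centralizer (D : Set H)) ≤ W ⊓ centralizer (D0 : Set H) :=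
    sup_le (le_inf (hle g) (le_centralizer_iff.1 inf_le_right)) (inf_le_inf_left _ (centralizer_le hlt.le))
  have hinf : U ⊓ (W ⊓ centralizer (D : Set H)) = U ⊓ centralizer (D : Set H) := by
    rw [← inf_assoc, inf_eq_left.2 (hle g)]
  have h3 := Lib.Coprime.card_sup_mul_card_inf_of_le_normalizer (A := U) (N := W ⊓ centralizer (D : Set H))
    (fun x hx => centralizer_le_normalizer _ (mem_centralizer_iff.2 fun y hy =>
      Lib.Thompson.commute_of_elementary hW hy.1 (hle g hx)))
  rw [hinf] at h3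
  have h4 : Nat.card U * Nat.card ↥(W ⊓ centralizer (D : Set H)) ≤
      Nat.card ↥(W ⊓ centralizer (D0 : Set H)) * Nat.card ↥(U ⊓ centralizer (D : Set H)) :=
    h3 ▸ Nat.mul_le_mul_right _ (card_le_of_le hsup)
  refine Nat.le_of_mul_le_mul_right (c := Nat.card ↥(U ⊓ centralizer (D : Set H))) ?_ Nat.card_pos
  calc Nat.card D * Nat.card D * Nat.card ↥(W ⊓ centralizer (D : Set H)) * Nat.card ↥(U ⊓ centralizer (D : Set H))
      = Nat.card D * Nat.card D * Nat.card ↥(U ⊓ centralizer (D : Set H)) * Nat.card ↥(W ⊓ centralizer (D : Set H)) := by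
        ring
    _ ≤ Nat.card D0 * Nat.card D0 * Nat.card U * Nat.card ↥(W ⊓ centralizer (D : Set H)) :=
        Nat.mul_le_mul_right _ h1
    _ = Nat.card D0 * Nat.card D0 * (Nat.card U * Nat.card ↥(W ⊓ centralizer (D : Set H))) := by ring
    _ ≤ Nat.card D0 * Nat.card D0 *
        (Nat.card ↥(W ⊓ centralizer (D0 : Set H)) * Nat.card ↥(U ⊓ centralizer (D : Set H))) :=
        Nat.mul_le_mul_left _ h4
    _ = Nat.card D0 * Nat.card D0 * Nat.card ↥(W ⊓ centralizer (D0 : Set H)) *
        Nat.card ↥(U ⊓ centralizer (D : Set H)) := by ring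
    _ ≤ _ := Nat.mul_le_mul_right _ h2

/-- The bound on the action of an elementary subgroup on an irreducible top factor. -/
theorem top_factor_bound (hsol : Group.IsSolvable H) (S : Sylow 2 H)
    (hS4 : ¬ Cfsg.Involves (Equiv.Perm (Fin 4)) H) {W M A : Subgroup H} [W.Normal] [M.Normal]
    (hW : Cfsg.IsElementaryAbelian 2 W) (hMW : M < W)
    (hirr : ∀ K : Subgroup H, K.Normal → M ≤ K → K ≤ W → K = M ∨ K = W) (hA : Cfsg.IsElementaryAbelian 2 A) :
    Nat.card A * Nat.card A * Nat.card ↥(W ⊓ centralizer (A : Set H)) * Nat.card M ≤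
      Nat.card ↥(A ⊓ actKer W M) * Nat.card ↥(A ⊓ actKer W M) * Nat.card W *
        Nat.card ↥(M ⊓ centralizer (A : Set H)) := by
  classical
  haveI : Fact (Nat.Prime 2) := ⟨Nat.prime_two⟩
  haveI : Group.IsSolvable H := hsol
  let mk := QuotientGroup.mk' M
  have hmk : Function.Surjective mk := QuotientGroup.mk'_surjective M
  have hmk1 : ∀ x, mk x = 1 ↔ x ∈ M := fun x => QuotientGroup.eq_one_iff x
  set Y := W.map mk with hYdef
  have hY : Cfsg.IsElementaryAbelian 2 Y := Lib.Thompson.isElementaryAbelian_map mk hW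
  haveI hYn : Y.Normal := Normal.map inferInstance mk hmk
  have hKY : (⊤ : Subgroup (H ⧸ M)) ≤ normalizer (Y : Set (H ⧸ M)) := by rw [normalizer_eq_top]
  have hS4' : ¬ Cfsg.Involves (Equiv.Perm (Fin 4)) ↥(⊤ : Subgroup (H ⧸ M)) := fun h =>
    hS4 (involves_of_image mk hmk (Lib.Fusion.involves_mono (Subgroup.subtype ⊤) (subtype_injective _) h))
  haveI : Group.IsSolvable (H ⧸ M) := Group.isSolvable_of_surjective hmk
  haveI : Finite (MulAut ↥Y) := Finite.of_injective (fun f => (f : ↥Y → ↥Y)) DFunLike.coe_injective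
  let ψ : H →* ↥(img ⊤ Y) := ((conjAdd Y).comp ((inclusion hKY).comp ((Subgroup.topEquiv.symm.toMonoidHom).comp mk))).codRestrict _
    fun l => (mem_img hKY).2 ⟨mk l, mem_top _, rfl⟩
  have hψs : Function.Surjective ψ := by
    rintro ⟨_, hi⟩
    obtain ⟨k, -, rfl⟩ := (mem_img hKY).1 hi
    obtain ⟨l, rfl⟩ := hmk k
    exact ⟨l, rfl⟩
  have hψ1 : ∀ x, ψ x = 1 ↔ x ∈ actKer W M := by
    intro x
    rw [Subtype.ext_iff]
    show conjAdd Y ⟨mk x, hKY (mem_top _)⟩ = 1 ↔ _
    rw [conjAdd_eq_one]; rfl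
  have hO : Cfsg.pCore 2 ↥(img ⊤ Y) = ⊥ := by
    set P := Cfsg.pCore 2 ↥(img ⊤ Y) with hPdef
    haveI : P.Normal := Lib.Hall.pCore_normal _
    set P0 := P.comap ψ with hP0
    haveI : P0.Normal := Normal.comap inferInstance ψ
    have hPS : P ≤ (S : Subgroup H).map ψ := by
      rw [← Sylow.coe_mapSurjective hψs S]; exact Lib.Hall.pCore_le_sylow _
    have hYp : IsPGroup 2 Y := Lib.Thompson.isPGroup_of_elementary hY
    have hYne : Y ≠ ⊥ := fun e => hMW.not_ge fun a ha => (hmk1 a).1 (mem_bot.1 (e ▸ ⟨a, ha, rfl⟩))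
    set T := (S : Subgroup H) ⊓ P0 with hT
    have hlt := commutator_lt_of_two_groups hYp ((S.isPGroup'.to_le (inf_le_left : T ≤ S)).map mk)
      (by rw [normalizer_eq_top]; exact le_top) hYne
    have heq : ⁅Y, P0.map mk⁆ ≤ ⁅Y, T.map mk⁆ := by
      rw [commutator_le]
      rintro u hu _ ⟨x, hx, rfl⟩
      obtain ⟨t, ht, hte⟩ := hPS hx
      have htP : t ∈ P0 := show ψ t ∈ P from hte ▸ hx
      have hk : t⁻¹ * x ∈ actKer W M := (hψ1 _).1 (by rw [map_mul, map_inv, hte, inv_mul_cancel])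
      have hku : mk (t⁻¹ * x) * u = u * mk (t⁻¹ * x) := (mem_centralizer_iff.1 hk u hu).symm
      have e : ⁅u, mk x⁆ = ⁅u, mk t⁆ := by
        have ex : mk x = mk t * mk (t⁻¹ * x) := by rw [← map_mul, mul_inv_cancel_left]
        rw [ex, commutatorElement_def, commutatorElement_def, mul_inv_rev]
        calc u * (mk t * mk (t⁻¹ * x)) * u⁻¹ * ((mk (t⁻¹ * x))⁻¹ * (mk t)⁻¹)
            = u * mk t * (mk (t⁻¹ * x) * u⁻¹ * (mk (t⁻¹ * x))⁻¹) * (mk t)⁻¹ := by group
          _ = u * mk t * u⁻¹ * (mk t)⁻¹ := by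
            rw [(Commute.inv_right (show Commute (mk (t⁻¹ * x)) u from hku)).eq, mul_inv_cancel_right]
      rw [e]; exact commutator_mem_commutator hu ⟨t, ⟨ht, htP⟩, rfl⟩
    haveI : (P0.map mk).Normal := Normal.map inferInstance mk hmk
    rcases hirr ((⁅Y, P0.map mk⁆).comap mk ⊓ W) inferInstance
        (le_inf (fun a ha => by rw [mem_comap, (hmk1 a).2 ha]; exact one_mem _) hMW.le) inf_le_right with hK | hK
    · rw [eq_bot_iff]
      intro p hp
      obtain ⟨x, rfl⟩ := hψs p
      refine mem_bot.2 ((hψ1 x).2 (mem_actKer.2 fun a ha => hK.le ?_))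
      refine mem_inf.2 ⟨?_, ?_⟩
      · rw [mem_comap, map_commutatorElement, ← commutatorElement_inv]
        exact inv_mem (commutator_mem_commutator ⟨a, ha, rfl⟩ ⟨x, hp, rfl⟩)
      · rw [commutatorElement_def]
        exact mul_mem (Normal.conj_mem inferInstance a ha x) (inv_mem ha)
    · refine absurd ?_ hlt.not_ge
      refine le_trans ?_ heq
      rintro _ ⟨a, ha, rfl⟩
      exact (hK.ge ha).1
  have hD := Lib.Thompson.isElementaryAbelian_map mk hA
  have hb := bound_reduced hY le_top hKY hS4' inferInstance hO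
    (D := A.map mk) le_top (fun d hd => by rw [hD.2 d hd]; exact one_mem _) (fun d hd d' hd' => by
      rw [commutatorElement_eq_one_iff_mul_comm.2 (Lib.Thompson.commute_of_elementary hD hd hd')]; exact one_mem _)
  have hMk : M ≤ actKer W M := hMW.le.trans (le_actKer_self hW)
  have hker : mk.ker = M := QuotientGroup.ker_mk' M
  have cA := card_map_mul_card_inf_ker mk A
  have cK := card_map_mul_card_inf_ker mk (A ⊓ actKer W M)
  have cW := card_map_mul_card_inf_ker mk W
  have cC := card_map_mul_card_inf_ker mk (W ⊓ centralizer (A : Set H))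
  rw [hker] at cA cK cW cC
  rw [inf_eq_right.2 hMW.le] at cW
  rw [inf_assoc, inf_eq_right.2 hMk] at cK
  rw [show W ⊓ centralizer (A : Set H) ⊓ M = M ⊓ centralizer (A : Set H) from by
    rw [inf_right_comm, inf_eq_right.2 hMW.le]] at cC
  have h1 : Nat.card ↥(A.map mk ⊓ centralizer (Y : Set (H ⧸ M))) ≤ Nat.card ((A ⊓ actKer W M).map mk) := by
    refine card_le_of_le ?_
    rintro _ ⟨⟨a, ha, rfl⟩, hc⟩
    exact ⟨a, ⟨ha, hc⟩, rfl⟩
  have h2 : Nat.card ((W ⊓ centralizer (A : Set H)).map mk) ≤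
      Nat.card ↥(Y ⊓ centralizer (A.map mk : Set (H ⧸ M))) := by
    refine card_le_of_le ?_
    rintro _ ⟨a, ⟨ha, hc⟩, rfl⟩
    refine ⟨⟨a, ha, rfl⟩, mem_centralizer_iff.2 ?_⟩
    rintro _ ⟨b, hb, rfl⟩
    rw [← map_mul, ← map_mul, mem_centralizer_iff.1 hc b hb]
  rw [← cA, ← cK, ← cW, ← cC]
  set i := Nat.card ↥(A ⊓ M)
  set m := Nat.card M
  set mA := Nat.card ↥(M ⊓ centralizer (A : Set H))
  set d := Nat.card (A.map mk)
  set k := Nat.card ((A ⊓ actKer W M).map mk)
  set y := Nat.card Y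
  set c := Nat.card ((W ⊓ centralizer (A : Set H)).map mk)
  have key : d * d * c ≤ k * k * y :=
    (Nat.mul_le_mul_left _ h2).trans (hb.trans (Nat.mul_le_mul_right _ (Nat.mul_le_mul h1 h1)))
  calc d * i * (d * i) * (c * mA) * m = d * d * c * (i * i * m * mA) := by ring
    _ ≤ k * k * y * (i * i * m * mA) := Nat.mul_le_mul_right _ key
    _ = _ := by ring

/-- A normal subgroup centralising a maximal submodule is bounded below. -/
theorem dual_bound {W M K : Subgroup H} [W.Normal] [K.Normal] (hW : Cfsg.IsElementaryAbelian 2 W)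
    (hirr : ∀ L : Subgroup H, L.Normal → M ≤ L → L ≤ W → L = M ∨ L = W) (hMW : M ≤ W)
    (hKM : K ≤ centralizer (M : Set H)) (hcom : ∀ k ∈ K, ∀ w ∈ W, ⁅k, w⁆ ∈ M)
    {I0 : Subgroup H} [I0.Normal] (hI0 : ∀ k ∈ K, ∀ k' ∈ K, ∀ w ∈ W, ∀ w' ∈ W,
      ⁅k, w⁆ ∉ I0 → ⁅k', w'⁆ ∉ I0 → ⁅k, w⁆ * ⁅k', w'⁆ ∈ I0)
    (hne : ∃ k ∈ K, ∃ w ∈ W, ⁅k, w⁆ ∉ I0) :
    Nat.card W * Nat.card ↥(K ⊓ centralizer (W : Set H)) ≤ Nat.card K * Nat.card M := by
  classical
  have hMW' : ∀ k ∈ K, ∀ w ∈ W, ⁅k, w⁆ ∈ W := fun k hk w hw => hMW (hcom k hk w hw)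
  have hbl : ∀ k ∈ K, ∀ k' ∈ K, ∀ w ∈ W, ⁅k * k', w⁆ = ⁅k, w⁆ * ⁅k', w⁆ := by
    intro k hk k' hk' w hw
    have h1 : k * ⁅k', w⁆ = ⁅k', w⁆ * k := (mem_centralizer_iff.1 (hKM hk) _ (hcom k' hk' w hw)).symm
    rw [show ⁅k * k', w⁆ = k * ⁅k', w⁆ * k⁻¹ * ⁅k, w⁆ by simp only [commutatorElement_def]; group,
      h1, mul_inv_cancel_right]
    exact Lib.Thompson.commute_of_elementary hW (hMW' k' hk' w hw) (hMW' k hk w hw)
  have hbr : ∀ k ∈ K, ∀ w ∈ W, ∀ w' ∈ W, ⁅k, w * w'⁆ = ⁅k, w⁆ * ⁅k, w'⁆ := by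
    intro k hk w hw w' hw'
    rw [show ⁅k, w * w'⁆ = ⁅k, w⁆ * (w * ⁅k, w'⁆ * w⁻¹) by simp only [commutatorElement_def]; group,
      Lib.Thompson.commute_of_elementary hW hw (hMW' k hk w' hw'), mul_inv_cancel_right]
  have hsgn : ∀ k ∈ K, ∀ k' ∈ K, ∀ w ∈ W, ∀ w' ∈ W,
      (if ⁅k, w⁆ * ⁅k', w'⁆ ∈ I0 then (1 : ℂˣ) else -1) =
        (if ⁅k, w⁆ ∈ I0 then 1 else -1) * (if ⁅k', w'⁆ ∈ I0 then 1 else -1) := by
    intro k hk k' hk' w hw w' hw'
    by_cases h : ⁅k, w⁆ ∈ I0 <;> by_cases h' : ⁅k', w'⁆ ∈ I0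
    · rw [if_pos (mul_mem h h'), if_pos h, if_pos h', one_mul]
    · rw [if_neg fun e => h' (by have := mul_mem (inv_mem h) e; rwa [inv_mul_cancel_left] at this), if_pos h, if_neg h', one_mul]
    · rw [if_neg fun e => h (by have := mul_mem e (inv_mem h'); rwa [mul_inv_cancel_right] at this), if_neg h, if_pos h', mul_one]
    · rw [if_pos (hI0 k hk k' hk' w hw w' hw' h h'), if_neg h, if_neg h', neg_mul_neg, one_mul]
  set C := K ⊓ centralizer (W : Set H) with hC
  let Cs : Subgroup K := C.subgroupOf K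
  haveI : Cs.Normal := inferInstance
  have hQc : ∀ a b : K, ⁅a, b⁆ ∈ Cs := by
    intro a b
    refine mem_inf.2 ⟨(⁅a, b⁆ : K).2, mem_centralizer_iff.2 fun w hw => ?_⟩
    have hW1 : ∀ k ∈ K, k * w = ⁅k, w⁆ * w * k := fun k _ => by rw [commutatorElement_def]; group
    have e1 := hbl (a * b) (mul_mem a.2 b.2) (b * a)⁻¹ (inv_mem (mul_mem b.2 a.2)) w hw
    have e2 : ⁅(b * a : H), w⁆ = ⁅(a * b : H), w⁆ := by
      rw [hbl a a.2 b b.2 w hw, hbl b b.2 a a.2 w hw]
      exact Lib.Thompson.commute_of_elementary hW (hMW' b b.2 w hw) (hMW' a a.2 w hw)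
    have e3 := hbl (b * a) (mul_mem b.2 a.2) (b * a)⁻¹ (inv_mem (mul_mem b.2 a.2)) w hw
    have e4 : ⁅((⁅a, b⁆ : K) : H), w⁆ = 1 := by
      rw [show ((⁅a, b⁆ : K) : H) = (a * b : H) * (b * a : H)⁻¹ by
        show (a : H) * b * (a : H)⁻¹ * (b : H)⁻¹ = _
        group, e1, ← e2, ← e3]
      rw [mul_inv_cancel, commutatorElement_one_left]
    exact (commutatorElement_eq_one_iff_mul_comm.1 e4).symm
  letI : CommGroup (K ⧸ Cs) := { (inferInstance : Group (K ⧸ Cs)) with
    mul_comm := fun x y => by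
      obtain ⟨a, rfl⟩ := QuotientGroup.mk'_surjective Cs x
      obtain ⟨b, rfl⟩ := QuotientGroup.mk'_surjective Cs y
      rw [← commutatorElement_eq_one_iff_mul_comm, ← map_commutatorElement]
      exact (QuotientGroup.eq_one_iff _).2 (hQc a b) }
  let χ : ↥W → (K ⧸ Cs →* ℂˣ) := fun w => QuotientGroup.lift Cs
    { toFun := fun k => if ⁅(k : H), (w : H)⁆ ∈ I0 then (1 : ℂˣ) else -1
      map_one' := by rw [OneMemClass.coe_one, commutatorElement_one_left, if_pos (one_mem I0)]
      map_mul' := fun a b => by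
        rw [Subgroup.coe_mul, hbl a a.2 b b.2 w w.2]; exact hsgn a a.2 b b.2 w w.2 w w.2 }
    (fun k hk => by
      show (if ⁅(k : H), (w : H)⁆ ∈ I0 then (1 : ℂˣ) else -1) = 1
      rw [if_pos]
      have : ⁅(k : H), (w : H)⁆ = 1 :=
        commutatorElement_eq_one_iff_mul_comm.2 (mem_centralizer_iff.1 hk.2 w w.2).symm
      rw [this]; exact one_mem _)
  have hχ : ∀ (w : ↥W) (k : K), χ w (QuotientGroup.mk' Cs k) = if ⁅(k : H), (w : H)⁆ ∈ I0 then 1 else -1 :=
    fun _ _ => rfl
  let Φ : ↥W →* (K ⧸ Cs →* ℂˣ) :=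
    { toFun := χ
      map_one' := MonoidHom.ext fun x => by
        obtain ⟨k, rfl⟩ := QuotientGroup.mk'_surjective Cs x
        rw [hχ, OneMemClass.coe_one, commutatorElement_one_right, if_pos (one_mem I0)]; rfl
      map_mul' := fun v w => MonoidHom.ext fun x => by
        obtain ⟨k, rfl⟩ := QuotientGroup.mk'_surjective Cs x
        rw [MonoidHom.mul_apply, hχ, hχ, hχ, Subgroup.coe_mul, hbr k k.2 v v.2 w w.2]
        exact hsgn k k.2 k k.2 v v.2 w w.2 }
  set L := Φ.ker.map W.subtype with hL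
  have hLmem : ∀ w : ↥W, w ∈ Φ.ker ↔ ∀ k ∈ K, ⁅k, (w : H)⁆ ∈ I0 := by
    intro w
    constructor
    · intro h k hk
      have h' := congrArg (fun f => f (QuotientGroup.mk' Cs ⟨k, hk⟩)) (MonoidHom.mem_ker.1 h)
      have h'' : (if ⁅k, (w : H)⁆ ∈ I0 then (1 : ℂˣ) else -1) = 1 := h'
      by_contra hn
      rw [if_neg hn] at h''
      have h3 : ((-1 : ℂˣ) : ℂ) = 1 := congrArg Units.val h''
      norm_num at h3
    · intro h
      refine MonoidHom.mem_ker.2 (MonoidHom.ext fun x => ?_)
      obtain ⟨k, rfl⟩ := QuotientGroup.mk'_surjective Cs x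
      show (if _ then (1 : ℂˣ) else -1) = 1
      rw [if_pos (h k k.2)]
  have hLn : L.Normal := by
    refine ⟨fun x hx g => ?_⟩
    obtain ⟨w, hw, rfl⟩ := hx
    refine ⟨⟨g * w * g⁻¹, Normal.conj_mem inferInstance _ w.2 g⟩, (hLmem _).2 fun k hk => ?_, rfl⟩
    have := (hLmem w).1 hw (g⁻¹ * k * g) (Normal.conj_mem' inferInstance k hk g)
    have h2 := Normal.conj_mem (inferInstance : I0.Normal) _ this g
    rw [show g * ⁅g⁻¹ * k * g, (w : H)⁆ * g⁻¹ = ⁅k, g * (w : H) * g⁻¹⁆ by
      simp only [commutatorElement_def]; group] at h2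
    exact h2
  have hML : M ≤ L := fun m hm => ⟨⟨m, hMW hm⟩, (hLmem _).2 fun k hk => by
    rw [commutatorElement_eq_one_iff_mul_comm.2 (mem_centralizer_iff.1 (hKM hk) m hm).symm]; exact one_mem _, rfl⟩
  have hLM : L = M := by
    rcases hirr L hLn hML (map_subtype_le _) with h | h
    · exact h
    · exfalso
      obtain ⟨k, hk, w, hw, hkw⟩ := hne
      obtain ⟨w', hw', he⟩ := h.ge hw
      exact hkw (he ▸ (hLmem w').1 hw' k hk)
  have hcard : Nat.card (K ⧸ Cs →* ℂˣ) = Nat.card (K ⧸ Cs) :=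
    CommGroup.card_monoidHom_of_hasEnoughRootsOfUnity _ _
  haveI : Finite (K ⧸ Cs →* ℂˣ) := Nat.finite_of_card_ne_zero (by rw [hcard]; exact Nat.card_pos.ne')
  have h1 := Φ.ker.card_mul_index
  rw [index_ker] at h1
  have h2 : Nat.card Φ.ker = Nat.card M := by
    rw [← hLM, hL, card_map_of_injective W.subtype_injective]
  have h3 : Nat.card Φ.range ≤ Nat.card (K ⧸ Cs) :=
    hcard ▸ Nat.card_le_card_of_injective (fun x => (x : K ⧸ Cs →* ℂˣ)) Subtype.val_injective
  have h4 := Cs.card_mul_index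
  rw [Nat.card_congr (subgroupOfEquivOfLe (inf_le_left : C ≤ K)).toEquiv, index_eq_card] at h4
  calc Nat.card W * Nat.card C = Nat.card M * Nat.card Φ.range * Nat.card C := by rw [← h1, h2]
    _ ≤ Nat.card M * Nat.card (K ⧸ Cs) * Nat.card C := Nat.mul_le_mul_right _ (Nat.mul_le_mul_left _ h3)
    _ = _ := by rw [← h4]; ring

/-- The normality of `V`. -/
theorem normal_of_bound (hsol : Group.IsSolvable H)
    (hC : centralizer (Cfsg.pCore 2 H : Set H) ≤ Cfsg.pCore 2 H)
    (hS4 : ¬ Cfsg.Involves (Equiv.Perm (Fin 4)) H) (S : Sylow 2 H) {V : Subgroup H}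
    (hV : Cfsg.IsElementaryAbelian 2 V) (hSV : (S : Subgroup H) ≤ normalizer (V : Set H)) (hP : PBound V)
    (hJC : Cfsg.thompsonSubgroupOf 2 (S : Subgroup H) ≤ centralizer (V : Set H))
    (hNJ : normalizer (Cfsg.thompsonSubgroupOf 2 (S : Subgroup H) : Set H) ≤ normalizer (V : Set H))
    (hrec : ∀ K : Subgroup H, (S : Subgroup H) ≤ K → K ≠ ⊤ → K ≤ normalizer (V : Set H)) :
    normalizer (V : Set H) = ⊤ := by
  classical
  haveI : Fact (Nat.Prime 2) := ⟨Nat.prime_two⟩
  set Q := Cfsg.pCore 2 H with hQ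
  haveI hQn : Q.Normal := Lib.Hall.pCore_normal _
  have hQS : Q ≤ (S : Subgroup H) := Lib.Hall.pCore_le_sylow S
  have hVQ : V ≤ Q := le_pCore_of_bound hsol hC hS4 hV (hQS.trans hSV) hP
  set J := Cfsg.thompsonSubgroupOf 2 (S : Subgroup H) with hJ
  set O := oddGen H with hO
  have hOS := oddGen_sup_sylow S
  by_contra hne
  have hOV : ¬ O ≤ normalizer (V : Set H) := fun h => hne (top_unique (hOS ▸ sup_le h hSV))
  have hnot : ∀ N : Subgroup H, N.Normal → J ≤ N → N ≤ normalizer (V : Set H) → False := by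
    intro N hN hJN hNV
    have e : J = Cfsg.thompsonSubgroupOf 2 ((S : Subgroup H) ⊓ N) :=
      Lib.FPF.thompsonSubgroupOf_eq_of_forall_le inf_le_left fun A hA =>
        le_inf (map_subtype_le A) ((map_mono (le_sSup hA)).trans hJN)
    have hSN := Lib.LocalChar.IsSylowIn.inf_subnormal (p := 2) S hN.isSubnormal
    have hF := hSN.frattini' le_top (normalizer_eq_top_iff.2 hN).ge
    rw [top_inf_eq] at hF
    refine hne (top_unique (hF ▸ sup_le hNV ?_))
    exact (Lib.FPF.normalizer_le_normalizer_thompson _).trans (e ▸ hNJ)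
  have hsmall : ∀ N : Subgroup H, N.Normal → ¬ O ≤ N → N ≤ normalizer (V : Set H) := fun N hN hON =>
    le_sup_left.trans (hrec (N ⊔ (S : Subgroup H)) le_sup_right fun e => hON (oddGen_le_of_sup_eq_top S e))
  set W := normalClosure (V : Set H) with hWdef
  haveI hWn : W.Normal := normalClosure_normal
  have hVW : V ≤ W := subset_normalClosure
  have hcjW : ∀ g, cj g V ≤ W := fun g x hx => by
    simpa [mul_assoc] using hWn.conj_mem _ (hVW (mem_cj.1 hx)) g
  have hconj : ∀ x ∈ Group.conjugatesOfSet (V : Set H), ∃ g, x ∈ cj g V := by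
    intro x hx
    obtain ⟨a, ha, hc⟩ := Group.mem_conjugatesOfSet_iff.1 hx
    obtain ⟨g, rfl⟩ := isConj_iff.1 hc
    exact ⟨g, a, ha, rfl⟩
  have hge : ∀ C : Subgroup H, (∀ g, cj g V ≤ C) → W ≤ C := fun C hC' =>
    (closure_le C).2 fun x hx => by
      obtain ⟨g, hg⟩ := hconj x hx
      exact hC' g hg
  have hWel : Cfsg.IsElementaryAbelian 2 W := by
    refine Lib.Thompson.isElementaryAbelian_closure ?_ ?_
    · intro x hx y hy
      obtain ⟨a, ha⟩ := hconj x hx
      obtain ⟨b, hb⟩ := hconj y hy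
      exact (mem_centralizer_iff.1 (cj_commute hV hP hVQ (hQS.trans hSV) a b ha) y hb).symm
    · intro x hx
      obtain ⟨a, ha⟩ := hconj x hx
      exact (elementary_cj hV a).2 x ha
  have hWQ : W ≤ Q := normalClosure_le_normal hVQ
  have hCWV : centralizer (W : Set H) ≤ normalizer (V : Set H) :=
    (centralizer_le hVW).trans (centralizer_le_normalizer _)
  haveI : (centralizer (W : Set H)).Normal := inferInstance
  have hJW : ¬ J ≤ centralizer (W : Set H) := fun h => hnot _ inferInstance h hCWV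
  haveI : O.Normal := oddGen_normal
  set W0 := ⁅W, O⁆ with hW0def
  haveI : W0.Normal := inferInstance
  have hW0W : W0 ≤ W := commutator_le_left W O
  have hcom0 : ∀ x ∈ O, ∀ w ∈ W, ⁅x, w⁆ ∈ W0 := fun x hx w hw => by
    rw [← commutatorElement_inv]; exact inv_mem (commutator_mem_commutator hw hx)
  set W1 := ⁅W0, O⁆ with hW1def
  haveI : W1.Normal := inferInstance
  have hW1 : W0 ≤ W1 := by
    have hO1 : O ≤ actKer W W1 := by
      refine (closure_le _).2 fun x hx => mem_actKer.2 fun w hw => ?_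
      have hxO : x ∈ O := subset_closure hx
      refine (QuotientGroup.eq_one_iff _).1 (show QuotientGroup.mk' W1 ⁅x, w⁆ = 1 from ?_)
      rw [map_commutatorElement, commutatorElement_eq_one_iff_mul_comm]
      have hc : (⁅QuotientGroup.mk' W1 x, QuotientGroup.mk' W1 w⁆) ^ (2 ^ 1) = 1 := by
        rw [← map_commutatorElement, ← map_pow, pow_one, hWel.2 _ (hW0W (hcom0 x hxO w hw)), map_one]
      refine fix_of_stable (Odd.of_dvd_nat hx (orderOf_map_dvd _ _))
        (by rw [commutatorElement_def, inv_mul_cancel_right]) ?_ hc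
      rw [← map_commutatorElement, ← commutatorElement_eq_one_iff_mul_comm, ← map_commutatorElement]
      refine (QuotientGroup.eq_one_iff _).2 ?_
      rw [← commutatorElement_inv]
      exact inv_mem (commutator_mem_commutator (hcom0 x hxO w hw) hxO)
    rw [hW0def, commutator_le]
    intro w hw x hx
    rw [← commutatorElement_inv]; exact inv_mem (mem_actKer.1 (hO1 hx) w hw)
  have hW0ne : W0 ≠ ⊥ := fun e => hOV fun x hx => hCWV (mem_centralizer_iff.2 fun w hw =>
    commutatorElement_eq_one_iff_mul_comm.1 (mem_bot.1 (e ▸ commutator_mem_commutator hw hx)))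
  -- the top factor
  obtain ⟨M, hMn, hMW, hW0M, hirr⟩ : ∃ M : Subgroup H, M.Normal ∧ M ≤ W ∧ ¬ W0 ≤ M ∧
      ∀ K : Subgroup H, K.Normal → M ≤ K → K ≤ W → K = M ∨ K = W := by
    obtain ⟨M0, -, hM0⟩ := Finite.exists_le_maximal (p := fun K : Subgroup H => K.Normal ∧ K < W0)
      (a := ⊥) ⟨inferInstance, hW0ne.bot_lt⟩
    haveI : M0.Normal := hM0.prop.1
    have hirr0 : ∀ K : Subgroup H, K.Normal → M0 ≤ K → K ≤ W0 → K = M0 ∨ K = W0 := fun K hK h1 h2 =>
      (eq_or_lt_of_le h2).symm.imp (fun h => (hM0.eq_of_le ⟨hK, h⟩ h1).symm) id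
    by_cases hWW : W0 = W
    · exact ⟨M0, inferInstance, hWW ▸ hM0.prop.2.le, hM0.prop.2.not_ge, fun K hK h1 h2 => hWW ▸ hirr0 K hK h1 (hWW ▸ h2)⟩
    have hmove : ¬ O ≤ actKer W0 M0 := fun h => hM0.prop.2.not_ge (hW1.trans (by
      rw [hW1def, commutator_le]
      intro w hw x hx
      rw [← commutatorElement_inv]; exact inv_mem (mem_actKer.1 (h hx) w hw)))
    have hN1 := hsmall (actKer W0 M0) inferInstance hmove
    refine exists_top_factor hsol S hWel hM0.prop.2 hW0W hirr0 hmove ?_ hcom0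
    intro x hx hxN w hw
    set IX := ⨅ g : H, (cj g V ⊓ W0) ⊔ M0 with hIX
    have hW0cj : ∀ g : H, cj g W0 = W0 := fun g => by
      ext y; rw [mem_cj]
      exact ⟨fun h => by simpa [mul_assoc] using (inferInstance : W0.Normal).conj_mem _ h g,
        fun h => (inferInstance : W0.Normal).conj_mem' y h g⟩
    haveI : IX.Normal := by
      refine ⟨fun y hy a => ?_⟩
      rw [hIX, mem_iInf] at hy ⊢
      intro g
      obtain ⟨p, hp, q, hq, rfl⟩ := mem_sup_of_normal_right.1 (hy (a⁻¹ * g))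
      refine mem_sup_of_normal_right.2 ⟨a * p * a⁻¹, mem_inf.2 ⟨?_, Normal.conj_mem inferInstance p hp.2 a⟩,
        a * q * a⁻¹, Normal.conj_mem inferInstance q hq a, by group⟩
      rw [mem_cj]
      have := mem_cj.1 hp.1
      rw [show g⁻¹ * (a * p * a⁻¹) * g = (a⁻¹ * g)⁻¹ * p * (a⁻¹ * g) by group]
      exact this
    rcases hirr0 IX inferInstance (le_iInf fun g => le_sup_right)
        ((iInf_le _ 1).trans (sup_le inf_le_right hM0.prop.2.le)) with hI | hI
    · have hVW0 : ∀ g : H, cj g V ⊔ W0 = W := by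
        have h1 : (V ⊔ W0).Normal := by
          rw [← normalizer_eq_top_iff]
          refine top_unique (hOS ▸ sup_le ?_ ?_)
          · intro y hy
            refine mem_normalizer_fintype fun z hz => ?_
            rw [show y * z * y⁻¹ = ⁅y, z⁆ * z by rw [commutatorElement_def, inv_mul_cancel_right]]
            exact mul_mem (mem_sup_right (hcom0 y hy z (sup_le hVW hW0W hz))) hz
          · intro y hy
            refine mem_normalizer_fintype fun z hz => ?_
            obtain ⟨p, hp, q, hq, rfl⟩ := mem_sup_of_normal_right.1 hz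
            exact mem_sup_of_normal_right.2 ⟨y * p * y⁻¹, (mem_normalizer_iff.1 (hSV hy) p).1 hp, y * q * y⁻¹,
              Normal.conj_mem inferInstance q hq y, by group⟩
        intro g
        have h2 : V ⊔ W0 = W := le_antisymm (sup_le hVW hW0W) (normalClosure_le_normal fun _ h => mem_sup_left h)
        calc cj g V ⊔ W0 = cj g V ⊔ cj g W0 := by rw [hW0cj]
          _ = cj g (V ⊔ W0) := (Subgroup.map_sup _ _ _).symm
          _ = W := by
            rw [h2]; ext y; rw [mem_cj]
            exact ⟨fun h => by simpa [mul_assoc] using hWn.conj_mem _ h g, fun h => hWn.conj_mem' y h g⟩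
      refine hI.le ?_
      rw [hIX, mem_iInf]
      intro g
      obtain ⟨u, hu, a, ha, rfl⟩ := mem_sup_of_normal_right.1 ((hVW0 g).symm ▸ hw)
      rw [show ⁅x, u * a⁆ = ⁅x, u⁆ * (u * ⁅x, a⁆ * u⁻¹) by simp only [commutatorElement_def]; group]
      refine mul_mem (mem_sup_left (mem_inf.2 ⟨?_, hcom0 x hx u (hcjW g hu)⟩))
        (mem_sup_right (Normal.conj_mem inferInstance _ (mem_actKer.1 hxN a ha) u))
      rw [commutatorElement_def]
      exact mul_mem ((mem_normalizer_iff.1 (cj_le_normalizer hN1 g hxN) u).1 hu) (inv_mem hu)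
    · exfalso
      refine hnot _ inferInstance ?_ hN1
      intro j hj
      refine mem_actKer.2 fun a ha => ?_
      obtain ⟨p, hp, q, hq, rfl⟩ := mem_sup_of_normal_right.1 ((mem_iInf.1 (hI.ge ha)) 1)
      have hp' : p ∈ V := cj_one V ▸ hp.1
      rw [show ⁅j, p * q⁆ = ⁅j, p⁆ * (p * ⁅j, q⁆ * p⁻¹) by simp only [commutatorElement_def]; group,
        commutatorElement_eq_one_iff_mul_comm.2 (mem_centralizer_iff.1 (hJC hj) p hp').symm, one_mul]
      refine Normal.conj_mem inferInstance _ ?_ _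
      rw [commutatorElement_def]
      exact mul_mem (Normal.conj_mem inferInstance q hq j) (inv_mem hq)
  haveI := hMn
  have hMlt : M < W := lt_of_le_of_ne hMW fun e => hW0M (e ▸ hW0W)
  set N1 := actKer W M with hN1def
  have hON1 : ¬ O ≤ N1 := fun h => hW0M (by
    rw [hW0def, commutator_le]
    intro w hw x hx
    rw [← commutatorElement_inv]; exact inv_mem (mem_actKer.1 (h hx) w hw))
  have hN1V := hsmall N1 inferInstance hON1
  have hCWN1 : centralizer (W : Set H) ≤ N1 := fun x hx => mem_actKer.2 fun w hw => by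
    rw [commutatorElement_eq_one_iff_mul_comm.2 (mem_centralizer_iff.1 hx w hw).symm]; exact one_mem _
  have hWS : W ≤ (S : Subgroup H) := hWQ.trans hQS
  have hkey : ∀ A ∈ Cfsg.maxElementaryAbelianSubgroups 2 (S : Subgroup H),
      A.map (S : Subgroup H).subtype ≤ centralizer (M : Set H) ∧
      (A.map (S : Subgroup H).subtype ⊓ N1 ≤ centralizer (W : Set H) →
        A.map (S : Subgroup H).subtype ≤ centralizer (W : Set H)) := by
    intro A hA
    set B := A.map (S : Subgroup H).subtype with hBdef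
    have hB : Cfsg.IsElementaryAbelian 2 B := Lib.Thompson.isElementaryAbelian_map _ hA.1
    set c := Nat.card ↥(B ⊓ centralizer (W : Set H)) with hc
    set a := Nat.card ↥(W ⊓ centralizer (B : Set H)) with ha
    set mA := Nat.card ↥(M ⊓ centralizer (B : Set H)) with hmA
    have i1 := top_factor_bound hsol S hS4 hWel hMlt hirr hB
    set D := B ⊓ N1 with hDdef
    have hbest : c * Nat.card W ≤ Nat.card B * a := by
      set E := (B ⊓ centralizer (W : Set H)) ⊔ W with hE
      have hEel : Cfsg.IsElementaryAbelian 2 E :=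
        Lib.Thompson.isElementaryAbelian_sup (Lib.Thompson.isElementaryAbelian_le hB inf_le_left) hWel
          fun x hx y hy => (mem_centralizer_iff.1 hx.2 y hy).symm
      have hES : E ≤ (S : Subgroup H) := sup_le (inf_le_left.trans (map_subtype_le A)) hWS
      have hle : Nat.card E ≤ Nat.card B := by
        have h1 : Cfsg.IsElementaryAbelian 2 (E.subgroupOf (S : Subgroup H)) := by
          refine ⟨⟨⟨fun x y => Subtype.ext (Subtype.ext ?_)⟩⟩, fun x hx => Subtype.ext ?_⟩
          · exact Lib.Thompson.commute_of_elementary hEel x.2 y.2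
          · simpa using hEel.2 _ hx
        have h2 := hA.2 _ h1
        rw [Nat.card_congr (subgroupOfEquivOfLe hES).toEquiv] at h2
        rwa [hBdef, card_map_of_injective (S : Subgroup H).subtype_injective]
      have h3 := Lib.Coprime.card_sup_mul_card_inf_of_le_normalizer (A := B ⊓ centralizer (W : Set H)) (N := W)
        (inf_le_right.trans (centralizer_le_normalizer _))
      calc c * Nat.card W = Nat.card E * Nat.card ↥(B ⊓ centralizer (W : Set H) ⊓ W) := h3.symm
        _ ≤ Nat.card B * a := Nat.mul_le_mul hle (card_le_of_le fun x hx => ⟨hx.2, mem_centralizer_iff.2 fun b hb =>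
              Lib.Thompson.commute_of_elementary hB hb hx.1.1⟩)
    have i3 : Nat.card D * Nat.card D * a ≤ c * c * Nat.card W := by
      have h := bound_closure hWel hP hcjW hge D (fun g => inf_le_right.trans (cj_le_normalizer hN1V g))
        (fun d hd => by rw [hB.2 d hd.1]; exact one_mem _) (fun d hd d' hd' => by
          rw [commutatorElement_eq_one_iff_mul_comm.2 (Lib.Thompson.commute_of_elementary hB hd.1 hd'.1)]
          exact one_mem _)
      rw [show D ⊓ centralizer (W : Set H) = B ⊓ centralizer (W : Set H) from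
        le_antisymm (inf_le_inf_right _ inf_le_left) (le_inf (le_inf inf_le_left (inf_le_right.trans hCWN1)) inf_le_right)] at h
      exact (Nat.mul_le_mul_left _ (card_le_of_le (inf_le_inf_left _ (centralizer_le inf_le_left)))).trans h
    have hap : 0 < a := Nat.card_pos
    have hBp : 0 < Nat.card B := Nat.card_pos
    have hWp : 0 < Nat.card W := Nat.card_pos
    have hM1 : Nat.card M ≤ mA := by
      refine Nat.le_of_mul_le_mul_left (c := Nat.card B * Nat.card B * a * a) ?_
        (Nat.mul_pos (Nat.mul_pos (Nat.mul_pos hBp hBp) hap) hap)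
      calc Nat.card B * Nat.card B * a * a * Nat.card M = Nat.card B * Nat.card B * a * Nat.card M * a := by ring
        _ ≤ Nat.card D * Nat.card D * Nat.card W * mA * a := Nat.mul_le_mul_right _ i1
        _ = Nat.card D * Nat.card D * a * (Nat.card W * mA) := by ring
        _ ≤ c * c * Nat.card W * (Nat.card W * mA) := Nat.mul_le_mul_right _ i3
        _ = c * Nat.card W * (c * Nat.card W) * mA := by ring
        _ ≤ Nat.card B * a * (Nat.card B * a) * mA := Nat.mul_le_mul_right _ (Nat.mul_le_mul hbest hbest)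
        _ = _ := by ring
    have hMc : M ≤ centralizer (B : Set H) := inf_eq_left.1 (eq_of_le_of_card_ge inf_le_left hM1)
    refine ⟨le_centralizer_iff.1 hMc, fun hD => ?_⟩
    rw [show M ⊓ centralizer (B : Set H) = M from inf_eq_left.2 hMc] at i1
    have hDc : Nat.card D ≤ c := card_le_of_le (le_inf inf_le_left hD)
    have hcp : 0 < c := Nat.card_pos
    have hMp : 0 < Nat.card M := Nat.card_pos
    have hBc : Nat.card B ≤ c := by
      refine Nat.le_of_mul_le_mul_left (c := Nat.card B * a * c * Nat.card W * Nat.card M) ?_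
        (Nat.mul_pos (Nat.mul_pos (Nat.mul_pos (Nat.mul_pos hBp hap) hcp) hWp) hMp)
      calc Nat.card B * a * c * Nat.card W * Nat.card M * Nat.card B
          = Nat.card B * Nat.card B * a * Nat.card M * (c * Nat.card W) := by ring
        _ ≤ Nat.card D * Nat.card D * Nat.card W * Nat.card M * (c * Nat.card W) := Nat.mul_le_mul_right _ i1
        _ ≤ c * c * Nat.card W * Nat.card M * (Nat.card B * a) :=
            Nat.mul_le_mul (Nat.mul_le_mul_right _ (Nat.mul_le_mul_right _ (Nat.mul_le_mul hDc hDc))) hbest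
        _ = _ := by ring
    exact inf_eq_left.1 (eq_of_le_of_card_ge inf_le_left hBc)
  have hJM : J ≤ centralizer (M : Set H) := by
    rw [hJ, Cfsg.thompsonSubgroupOf, map_le_iff_le_comap]
    exact sSup_le fun A hA => map_le_iff_le_comap.1 (hkey A hA).1
  have hOM : O ≤ centralizer (M : Set H) := by
    by_contra h
    exact hnot _ inferInstance hJM (hsmall _ inferInstance h)
  obtain ⟨A, hA, hAW⟩ : ∃ A ∈ Cfsg.maxElementaryAbelianSubgroups 2 (S : Subgroup H),
      ¬ A.map (S : Subgroup H).subtype ≤ centralizer (W : Set H) := by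
    by_contra h; push Not at h
    refine hJW ?_
    rw [hJ, Cfsg.thompsonSubgroupOf, map_le_iff_le_comap]
    exact sSup_le fun A hA => map_le_iff_le_comap.1 (h A hA)
  set K := N1 ⊓ centralizer (M : Set H) with hKdef
  haveI : K.Normal := inferInstance
  have hKW : ¬ K ≤ centralizer (W : Set H) := fun h => hAW ((hkey A hA).2 fun x hx =>
    h ⟨hx.2, (hkey A hA).1 hx.1⟩)
  have hKcom : ∀ k ∈ K, ∀ w ∈ W, ⁅k, w⁆ ∈ M := fun k hk w hw => mem_actKer.1 hk.1 w hw
  set I := ⁅K, W⁆ with hIdef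
  haveI : I.Normal := inferInstance
  have hIM : I ≤ M := commutator_le.2 hKcom
  have hIne : I ≠ ⊥ := fun e => hKW fun k hk => mem_centralizer_iff.2 fun w hw =>
    (commutatorElement_eq_one_iff_mul_comm.1 (mem_bot.1 (e ▸ commutator_mem_commutator hk hw))).symm
  have hIp : IsPGroup 2 I := (Lib.Thompson.isPGroup_of_elementary hWel).to_le (hIM.trans hMW)
  obtain ⟨I0, hI0le, hI0⟩ := Finite.exists_le_maximal (p := fun K : Subgroup H => K < I) (a := ⁅I, (S : Subgroup H)⁆)
    (commutator_lt_of_two_groups hIp S.isPGroup' (by rw [normalizer_eq_top]; exact le_top) hIne)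
  haveI hI0n : I0.Normal := by
    rw [← normalizer_eq_top_iff]
    refine top_unique (hOS ▸ sup_le ?_ ?_)
    · exact hOM.trans ((centralizer_le (hI0.prop.le.trans hIM)).trans (centralizer_le_normalizer _))
    · intro s hs
      refine mem_normalizer_fintype fun z hz => ?_
      have h1 : ⁅z, s⁆ ∈ I0 := hI0le (commutator_mem_commutator (hI0.prop.le hz) hs)
      rw [show s * z * s⁻¹ = ⁅z, s⁆⁻¹ * z by rw [commutatorElement_def]; group]
      exact mul_mem (inv_mem h1) hz
  have hdual := dual_bound hWel hirr hMW inf_le_right hKcom (I0 := I0) (by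
    intro k hk k' hk' w hw w' hw' h h'
    set u := ⁅k, w⁆ with hu
    set u' := ⁅k', w'⁆ with hu'
    have hu2 : u * u = 1 := elementary_pgroup hWel (hMW (hKcom k hk w hw))
    have huI : u ∈ I := commutator_mem_commutator hk hw
    have hu'I : u' ∈ I := commutator_mem_commutator hk' hw'
    have hmax : I0 ⊔ zpowers u = I := by
      by_contra hne'
      have hlt : I0 ⊔ zpowers u < I := lt_of_le_of_ne (sup_le hI0.prop.le (zpowers_le.2 huI)) hne'
      exact h (hI0.eq_of_le hlt le_sup_left ▸ mem_sup_right (mem_zpowers u))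
    obtain ⟨p, hp, q, hq, he⟩ := mem_sup_of_normal_left.1 (hmax.symm ▸ hu'I)
    obtain ⟨i, rfl⟩ := mem_zpowers_iff.1 hq
    rcases Int.even_or_odd' i with ⟨m, rfl | rfl⟩
    · exfalso
      rw [zpow_mul, zpow_two, hu2, one_zpow, mul_one] at he
      exact h' (he ▸ hp)
    · rw [zpow_add, zpow_mul, zpow_two, hu2, one_zpow, one_mul, zpow_one] at he
      rw [← he, ← mul_assoc, mul_assoc u p u]
      rw [Lib.Thompson.commute_of_elementary hWel (hMW (hIM (hI0.prop.le hp))) (hMW (hIM huI)), ← mul_assoc, hu2, one_mul]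
      exact hp) (by
    by_contra h; push Not at h
    exact hI0.prop.not_ge (commutator_le.2 h))
  have hext := bound_closure hWel hP hcjW hge K (fun g => inf_le_left.trans (cj_le_normalizer hN1V g)) ?_ ?_
  rotate_left
  · intro k hk
    refine mem_centralizer_iff.2 fun w hw => (commutatorElement_eq_one_iff_mul_comm.1 ?_).symm
    have hc := hKcom k hk w hw
    rw [pow_two, show ⁅k * k, w⁆ = k * ⁅k, w⁆ * k⁻¹ * ⁅k, w⁆ by simp only [commutatorElement_def]; group,
      ← mem_centralizer_iff.1 hk.2 _ hc, mul_inv_cancel_right]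
    exact elementary_pgroup hWel (hMW hc)
  · intro k hk l hl
    have key : ∀ w ∈ W, k * l * w * (k * l)⁻¹ = l * k * w * (l * k)⁻¹ := by
      intro w hw
      have hck := hKcom k hk w hw
      have hcl := hKcom l hl w hw
      have e1 : k * l * w * (k * l)⁻¹ = k * ⁅l, w⁆ * k⁻¹ * ⁅k, w⁆ * w := by simp only [commutatorElement_def]; group
      have e2 : l * k * w * (l * k)⁻¹ = l * ⁅k, w⁆ * l⁻¹ * ⁅l, w⁆ * w := by simp only [commutatorElement_def]; group
      rw [e1, e2, ← mem_centralizer_iff.1 hk.2 _ hcl, mul_inv_cancel_right, ← mem_centralizer_iff.1 hl.2 _ hck,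
        mul_inv_cancel_right, Lib.Thompson.commute_of_elementary hWel (hMW hcl) (hMW hck)]
    refine mem_centralizer_iff.2 fun w hw => ?_
    have h1 := key ((l * k)⁻¹ * w * (l * k)) (hWn.conj_mem' w hw (l * k))
    have h2 : ⁅k, l⁆ * w * ⁅k, l⁆⁻¹ = w := by
      calc ⁅k, l⁆ * w * ⁅k, l⁆⁻¹ = k * l * ((l * k)⁻¹ * w * (l * k)) * (k * l)⁻¹ := by
            simp only [commutatorElement_def]; group
        _ = l * k * ((l * k)⁻¹ * w * (l * k)) * (l * k)⁻¹ := h1
        _ = w := by group
    exact (mul_inv_eq_iff_eq_mul.1 h2).symm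
  have hKp : 0 < Nat.card K := Nat.card_pos
  have hMp : 0 < Nat.card M := Nat.card_pos
  have hsub : Nat.card M ≤ Nat.card ↥(W ⊓ centralizer (K : Set H)) :=
    card_le_of_le (le_inf hMW (le_centralizer_iff.1 inf_le_right))
  set c' := Nat.card ↥(K ⊓ centralizer (W : Set H))
  have hc'p : 0 < c' := Nat.card_pos
  refine hKW (inf_eq_left.1 (eq_of_le_of_card_ge inf_le_left ?_))
  refine Nat.le_of_mul_le_mul_left (c := Nat.card K * Nat.card M * c') ?_
    (Nat.mul_pos (Nat.mul_pos hKp hMp) hc'p)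
  calc Nat.card K * Nat.card M * c' * Nat.card K = Nat.card K * Nat.card K * Nat.card M * c' := by ring
    _ ≤ Nat.card K * Nat.card K * Nat.card ↥(W ⊓ centralizer (K : Set H)) * c' := by gcongr
    _ ≤ c' * c' * Nat.card W * c' := Nat.mul_le_mul_right _ hext
    _ = c' * c' * (Nat.card W * c') := by ring
    _ ≤ c' * c' * (Nat.card K * Nat.card M) := Nat.mul_le_mul_left _ hdual
    _ = _ := by ring

end Cfsg.Agent.Lib.QuadPair
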