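import Cfsg.Agent.Lib.QuadPair.Step2
import Cfsg.Agent.S2010
import Cfsg.Agent.Lib.Fusion.Sylow

/-!
A Sylow two-subgroup lies in a unique maximal two-local subgroup when the two-locals are solvable,
of characteristic two and `S₄`-free.
-/

set_option autoImplicit false
open Subgroup
open scoped commutatorElement

namespace Cfsg.Agent.Lib.QuadPair

universe v
variable {G : Type v} [Group G] [Finite G]

/-- The hypothesis on the two-local subgroups. -/
def GoodLocals (G : Type v) [Group G] : Prop :=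
  ∀ M : Subgroup G, Cfsg.IsTwoLocal M → Group.IsSolvable M ∧ Cfsg.IsOfCharacteristicTwo ↥M ∧
    ¬ Cfsg.Involves (Equiv.Perm (Fin 4)) ↥M

theorem le_of_normalizer_inf_le {P D : Subgroup G} (hP : IsPGroup 2 P) (hDP : D ≤ P)
    (h : P ⊓ normalizer (D : Set G) ≤ D) : P ≤ D := by
  haveI : Fact (Nat.Prime 2) := ⟨Nat.prime_two⟩
  by_contra hn
  exact (Lib.Fusion.lt_normalizer_inf hP (lt_of_le_not_ge hDP hn)).not_ge h

theorem map_inf_centralizer {H : Type*} [Group H] (f : H →* G) (hf : Function.Injective f) (A B : Subgroup H) :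
    (A ⊓ centralizer (B : Set H)).map f = A.map f ⊓ centralizer (B.map f : Set G) := by
  ext z
  constructor
  · rintro ⟨x, ⟨hx, hxc⟩, rfl⟩
    refine ⟨mem_map_of_mem f hx, mem_centralizer_iff.2 ?_⟩
    rintro _ ⟨y, hy, rfl⟩
    rw [← map_mul, mem_centralizer_iff.1 hxc y hy, map_mul]
  · rintro ⟨⟨x, hx, rfl⟩, hc⟩
    refine ⟨x, ⟨hx, mem_centralizer_iff.2 fun y hy => hf ?_⟩, rfl⟩
    rw [map_mul, map_mul]
    exact mem_centralizer_iff.1 hc _ (mem_map_of_mem f hy)

theorem map_omegaOne {H : Type*} [Group H] (f : H →* G) (hf : Function.Injective f) (A : Subgroup H) :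
    (Cfsg.omegaOne 2 A).map f = Cfsg.omegaOne 2 (A.map f) := by
  rw [Cfsg.omegaOne, Cfsg.omegaOne, MonoidHom.map_closure]
  congr 1
  ext z
  constructor
  · rintro ⟨x, ⟨hx, hx2⟩, rfl⟩
    exact ⟨mem_map_of_mem f hx, by rw [← map_pow, hx2, map_one]⟩
  · rintro ⟨⟨x, hx, rfl⟩, hx2⟩
    exact ⟨x, ⟨hx, hf (by rw [map_pow, hx2, map_one])⟩, rfl⟩

/-- The bound transfers to a subgroup. -/
theorem pBound_subgroupOf {H V : Subgroup G} (hVH : V ≤ H) (hV : Cfsg.IsElementaryAbelian 2 V)
    (hS4 : ¬ Cfsg.Involves (Equiv.Perm (Fin 4)) ↥(normalizer (V : Set G)))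
    (hsol : Group.IsSolvable ↥(normalizer (V : Set G)))
    (hO : Cfsg.pCore 2 ↥(img (normalizer (V : Set G)) V) = ⊥) : PBound (V.subgroupOf H) := by
  intro g D hDn hsq hcom
  let φ : ↥H →* G := (MulAut.conj (g : G)⁻¹).toMonoidHom.comp H.subtype
  have hφ : Function.Injective φ := (MulAut.conj (g : G)⁻¹).injective.comp H.subtype_injective
  set Y := cj g (V.subgroupOf H) with hY
  have hYV : Y.map φ = V := by
    ext x
    constructor
    · rintro ⟨y, hy, rfl⟩
      have h0 := mem_cj.1 hy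
      have h : ((g⁻¹ * y * g : ↥H) : G) ∈ V := h0
      simpa [φ, MulAut.conj_apply, mul_assoc] using h
    · intro hx
      refine ⟨g * ⟨x, hVH hx⟩ * g⁻¹, mem_cj.2 ?_, by simp [φ, MulAut.conj_apply, mul_assoc]⟩
      show ((g⁻¹ * (g * ⟨x, hVH hx⟩ * g⁻¹) * g : ↥H) : G) ∈ V
      simpa [mul_assoc] using hx
  have hDV : D.map φ ≤ normalizer (V : Set G) := by
    rintro _ ⟨d, hd, rfl⟩
    refine mem_normalizer_fintype fun x hx => ?_
    rw [← hYV] at hx ⊢
    obtain ⟨y, hy, rfl⟩ := hx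
    rw [← map_inv, ← map_mul, ← map_mul]
    exact mem_map_of_mem φ ((mem_normalizer_iff.1 (hDn hd) y).1 hy)
  have hc : ∀ x : ↥H, x ∈ centralizer (Y : Set ↥H) → φ x ∈ centralizer (V : Set G) := by
    intro x hx
    refine mem_centralizer_iff.2 fun y hy => ?_
    rw [← hYV] at hy
    obtain ⟨z, hz, rfl⟩ := hy
    rw [← map_mul, ← map_mul, mem_centralizer_iff.1 hx z hz]
  have h := bound_reduced hV le_normalizer le_rfl hS4 hsol hO hDV
    (by rintro _ ⟨d, hd, rfl⟩; rw [← map_pow]; exact hc _ (hsq d hd))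
    (by rintro _ ⟨d, hd, rfl⟩ _ ⟨e, he, rfl⟩; rw [← map_commutatorElement]; exact hc _ (hcom d hd e he))
  conv at h => rw [← hYV]
  rw [← map_inf_centralizer φ hφ, ← map_inf_centralizer φ hφ] at h
  simpa only [card_map_of_injective hφ] using h

/-- Every Sylow subgroup lies in a unique maximal two-local. -/
theorem exists_unique_local (hloc : GoodLocals G) (S : Sylow 2 G) (hne : (S : Subgroup G) ≠ ⊥) :
    ∃ M : Subgroup G, Cfsg.IsTwoLocal M ∧ (S : Subgroup G) ≤ M ∧
      ∀ L : Subgroup G, Cfsg.IsTwoLocal L → (S : Subgroup G) ≤ L → L ≤ M := by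
  classical
  haveI : Fact (Nat.Prime 2) := ⟨Nat.prime_two⟩
  set J := Cfsg.thompsonSubgroupOf 2 (S : Subgroup G) with hJ
  have hJS : J ≤ (S : Subgroup G) := map_subtype_le _
  set B := normalizer (J : Set G) with hB
  have hBloc : Cfsg.IsTwoLocal B :=
    ⟨J, S.isPGroup'.to_le hJS, Lib.FPF.thompsonSubgroupOf_ne_bot S.isPGroup' hne, rfl⟩
  have hSB : (S : Subgroup G) ≤ B := le_normalizer.trans (Lib.FPF.normalizer_le_normalizer_thompson _)
  obtain ⟨-, hBchar, -⟩ := hloc B hBloc
  set QB := Cfsg.pCoreOf 2 B with hQB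
  have hQBS : QB ≤ (S : Subgroup G) := by
    refine map_le_iff_le_comap.2 fun x hx => ?_
    exact Lib.Hall.pCore_le_sylow (S.subtype hSB) hx
  have hQBn : ∀ b ∈ B, ∀ q ∈ QB, b * q * b⁻¹ ∈ QB := by
    rintro b hb _ ⟨q, hq, rfl⟩
    haveI : (Cfsg.pCore 2 ↥B).Normal := Lib.Hall.pCore_normal _
    exact ⟨⟨b, hb⟩ * q * ⟨b, hb⟩⁻¹, Normal.conj_mem inferInstance q hq _, rfl⟩
  set Ωs := {x : G | x ∈ (S : Subgroup G) ⊓ centralizer ((S : Subgroup G) : Set G) ∧ x ^ 2 = 1} with hΩs
  set gens := {x : G | ∃ b ∈ B, ∃ ω ∈ Ωs, x = b * ω * b⁻¹} with hgens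
  set V := closure gens with hVdef
  have hΩV : Ωs ⊆ gens := fun ω hω => ⟨1, B.one_mem, ω, hω, by simp⟩
  have hgenZ : ∀ x ∈ gens, x ∈ QB ∧ x ∈ centralizer (QB : Set G) := by
    rintro _ ⟨b, hb, ω, hω, rfl⟩
    have hc : ∀ q ∈ QB, q * ω = ω * q := fun q hq => mem_centralizer_iff.1 hω.1.2 q (hQBS hq)
    have hωQ : ω ∈ QB := by
      refine ⟨⟨ω, hSB hω.1.1⟩, hBchar (mem_centralizer_iff.2 fun q hq => Subtype.ext ?_), rfl⟩
      exact hc _ ⟨q, hq, rfl⟩
    refine ⟨hQBn b hb ω hωQ, mem_centralizer_iff.2 fun q hq => ?_⟩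
    have h := hc _ (by simpa using hQBn b⁻¹ (inv_mem hb) q hq : b⁻¹ * q * b ∈ QB)
    calc q * (b * ω * b⁻¹) = b * ((b⁻¹ * q * b) * ω) * b⁻¹ := by group
      _ = b * (ω * (b⁻¹ * q * b)) * b⁻¹ := by rw [h]
      _ = b * ω * b⁻¹ * q := by group
  have hgen2 : ∀ x ∈ gens, x ^ 2 = 1 := by
    rintro _ ⟨b, -, ω, hω, rfl⟩
    rw [conj_pow, hω.2, mul_one, mul_inv_cancel]
  have hVel : Cfsg.IsElementaryAbelian 2 V := Lib.Thompson.isElementaryAbelian_closure
    (fun x hx y hy => (mem_centralizer_iff.1 (hgenZ y hy).2 x (hgenZ x hx).1)) hgen2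
  have hVQ : V ≤ QB := (closure_le _).2 fun x hx => (hgenZ x hx).1
  have hVS : V ≤ (S : Subgroup G) := hVQ.trans hQBS
  have hBV : B ≤ normalizer (V : Set G) := by
    intro b hb
    refine mem_normalizer_fintype fun x hx => ?_
    refine closure_induction (p := fun x _ => b * x * b⁻¹ ∈ V) ?_ ?_ ?_ ?_ hx
    · rintro _ ⟨c, hc, ω, hω, rfl⟩
      exact subset_closure ⟨b * c, mul_mem hb hc, ω, hω, by group⟩
    · simp
    · intro p q _ _ hp hq
      rw [show b * (p * q) * b⁻¹ = (b * p * b⁻¹) * (b * q * b⁻¹) by group]; exact mul_mem hp hq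
    · intro p _ hp
      rw [show b * p⁻¹ * b⁻¹ = (b * p * b⁻¹)⁻¹ by group]; exact inv_mem hp
  have hJV : J ≤ centralizer (V : Set G) := by
    rw [le_centralizer_iff, hVdef, closure_le]
    rintro _ ⟨b, hb, ω, hω, rfl⟩
    refine mem_centralizer_iff.2 fun j hj => ?_
    have hj' : b⁻¹ * j * b ∈ J := by simpa using (mem_normalizer_iff.1 (inv_mem hb : b⁻¹ ∈ B) j).1 hj
    have h := mem_centralizer_iff.1 hω.1.2 _ (hJS hj')
    calc j * (b * ω * b⁻¹) = b * ((b⁻¹ * j * b) * ω) * b⁻¹ := by group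
      _ = b * (ω * (b⁻¹ * j * b)) * b⁻¹ := by rw [h]
      _ = b * ω * b⁻¹ * j := by group
  obtain ⟨ω0, hω0, hω0ne⟩ : ∃ ω ∈ Ωs, ω ≠ (1 : G) := by
    haveI : Nontrivial (S : Subgroup G) := (nontrivial_iff_ne_bot _).2 hne
    haveI := S.isPGroup'.center_nontrivial
    obtain ⟨k, hk0, hk⟩ := (S.isPGroup'.to_subgroup (center (S : Subgroup G))).nontrivial_iff_card.1 inferInstance
    obtain ⟨z, hz⟩ := exists_prime_orderOf_dvd_card' (G := center (S : Subgroup G)) 2
      (by rw [hk]; exact dvd_pow_self 2 hk0.ne')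
    refine ⟨((z : (S : Subgroup G)) : G), ⟨⟨(z : (S : Subgroup G)).2, mem_centralizer_iff.2 fun s hs =>
      congrArg Subtype.val (mem_center_iff.1 z.2 ⟨s, hs⟩)⟩, ?_⟩, ?_⟩
    · have h := congrArg (fun x : center (S : Subgroup G) => ((x : (S : Subgroup G)) : G))
        ((congrArg (z ^ ·) hz.symm).trans (pow_orderOf_eq_one z))
      simpa using h
    · intro h
      have : z = 1 := Subtype.ext (Subtype.ext h)
      rw [this, orderOf_one] at hz; omega
  have hVne : V ≠ ⊥ := fun e => hω0ne (mem_bot.1 (e ▸ subset_closure (hΩV hω0)))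
  set K := normalizer (V : Set G) with hK
  have hKloc : Cfsg.IsTwoLocal K := ⟨V, S.isPGroup'.to_le hVS, hVne, rfl⟩
  obtain ⟨hKsol, -, hKS4⟩ := hloc K hKloc
  have hSK : (S : Subgroup G) ≤ K := hSB.trans hBV
  haveI : Finite (MulAut ↥V) := Finite.of_injective (fun f => (f : ↥V → ↥V)) DFunLike.coe_injective
  have hO : Cfsg.pCore 2 ↥(img K V) = ⊥ := by
    let ψ : ↥K →* ↥(img K V) := (conjAdd V).codRestrict _ fun k => (mem_img le_rfl).2 ⟨k, k.2, rfl⟩
    have hψs : Function.Surjective ψ := by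
      rintro ⟨f, hf⟩
      obtain ⟨k, hk, rfl⟩ := (mem_img le_rfl).1 hf
      exact ⟨⟨k, hk⟩, rfl⟩
    have hψ1 : ∀ k, ψ k = 1 ↔ (k : G) ∈ centralizer (V : Set G) := fun k => by
      rw [Subtype.ext_iff]; exact conjAdd_eq_one V _
    set P := Cfsg.pCore 2 ↥(img K V) with hP
    haveI : P.Normal := Lib.Hall.pCore_normal _
    have hPS : P ≤ ((S.subtype hSK : Sylow 2 K) : Subgroup K).map ψ := by
      rw [← Sylow.coe_mapSurjective hψs]; exact Lib.Hall.pCore_le_sylow _
    have hfix : ∀ x : ↥K, ψ x ∈ P → ∀ ω ∈ Ωs, (x : G) * ω = ω * x := by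
      intro x hx ω hω
      obtain ⟨s, hs, hse⟩ := hPS hx
      have hk : (s⁻¹ * x : ↥K) ∈ (ψ.ker) := by rw [MonoidHom.mem_ker, map_mul, map_inv, hse, inv_mul_cancel]
      have h1 := (mem_centralizer_iff.1 ((hψ1 _).1 hk) ω (subset_closure (hΩV hω))).symm
      have h2 : (s : G) * ω = ω * s := mem_centralizer_iff.1 hω.1.2 _ hs
      have h3 : (x : G) = (s : G) * ((s⁻¹ * x : ↥K) : G) := by simp
      rw [h3]
      exact ((show Commute (s : G) ω from h2).mul_left (show Commute ((s⁻¹ * x : ↥K) : G) ω from h1)).eq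
    rw [eq_bot_iff]
    intro p hp
    obtain ⟨x, rfl⟩ := hψs p
    refine mem_bot.2 ((hψ1 x).2 ?_)
    have hVC : V ≤ centralizer ({(x : G)} : Set G) := by
      rw [hVdef, closure_le]
      rintro _ ⟨b, hb, ω, hω, rfl⟩
      refine mem_centralizer_singleton_iff.2 ?_
      set bK : ↥K := ⟨b, hBV hb⟩ with hbK
      have hx' : ψ (bK⁻¹ * x * bK) ∈ P := by
        rw [map_mul, map_mul, map_inv]; exact Normal.conj_mem' inferInstance _ hp _
      have h := hfix _ hx' ω hω
      have h' : (b⁻¹ * (x : G) * b) * ω = ω * (b⁻¹ * (x : G) * b) := h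
      calc (b * ω * b⁻¹) * (x : G) = b * (ω * (b⁻¹ * (x : G) * b)) * b⁻¹ := by group
        _ = b * ((b⁻¹ * (x : G) * b) * ω) * b⁻¹ := by rw [h']
        _ = (x : G) * (b * ω * b⁻¹) := by group
    exact mem_centralizer_iff.2 fun v hv => (mem_centralizer_singleton_iff.1 (hVC hv))
  set Ω := Cfsg.omegaOne 2 ((S : Subgroup G) ⊓ centralizer ((S : Subgroup G) : Set G)) with hΩ
  have hΩS : Ω ≤ (S : Subgroup G) := (closure_le _).2 fun x hx => hx.1.1
  have hΩne : Ω ≠ ⊥ := fun e => hω0ne (mem_bot.1 (e ▸ subset_closure hω0))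
  have hΩloc : Cfsg.IsTwoLocal (normalizer (Ω : Set G)) := ⟨Ω, S.isPGroup'.to_le hΩS, hΩne, rfl⟩
  have hSN : (S : Subgroup G) ≤ normalizer (Ω : Set G) := by
    refine le_trans ?_ (centralizer_le_normalizer _)
    rw [le_centralizer_iff, hΩ, Cfsg.omegaOne, closure_le]
    exact fun x hx => hx.1.2
  obtain ⟨hNsol, hNchar, hNS4⟩ := hloc _ hΩloc
  -- everything centralising `Ω` normalises `V`
  have hC : ∀ H : Subgroup G, (S : Subgroup G) ≤ H → H ≤ centralizer (Ω : Set G) → H ≤ K := by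
    intro H
    induction H using WellFoundedLT.induction with
    | _ H ih =>
    intro hSH hHC
    have hHN : H ≤ normalizer (Ω : Set G) := hHC.trans (centralizer_le_normalizer _)
    have hsol : Group.IsSolvable ↥H := by
      haveI := hNsol
      exact Group.isSolvable_of_isSolvable_injective (inclusion_injective hHN)
    have hS4 : ¬ Cfsg.Involves (Equiv.Perm (Fin 4)) ↥H := fun h =>
      hNS4 (Lib.Fusion.involves_mono (inclusion hHN) (inclusion_injective hHN) h)
    set N := normalizer (Ω : Set G) with hN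
    have hchar : centralizer (Cfsg.pCore 2 ↥H : Set ↥H) ≤ Cfsg.pCore 2 ↥H := by
      set QN := Cfsg.pCore 2 ↥N with hQN
      haveI : QN.Normal := Lib.Hall.pCore_normal _
      have hQNS : ∀ q ∈ QN, ((q : ↥N) : G) ∈ H := fun q hq => hSH (Lib.Hall.pCore_le_sylow (S.subtype hSN) hq)
      haveI hn : (QN.comap (inclusion hHN)).Normal := Normal.comap inferInstance _
      have hle : QN.comap (inclusion hHN) ≤ Cfsg.pCore 2 ↥H :=
        Lib.Hall.le_pCore ((Lib.Hall.isPGroup_pCore 2).comap_of_injective _ (inclusion_injective hHN))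
      intro x hx
      refine hle (hNchar (mem_centralizer_iff.2 fun q hq => Subtype.ext ?_))
      exact congrArg (fun z : ↥H => (z : G)) (mem_centralizer_iff.1 hx ⟨q, hQNS q hq⟩ (hle (show inclusion hHN ⟨q, hQNS q hq⟩ ∈ QN from hq)))
    have hVH : V ≤ H := hVS.trans hSH
    set S' : Sylow 2 ↥H := S.subtype hSH with hS'
    have hS'map : (S' : Subgroup ↥H).map H.subtype = (S : Subgroup G) := by
      rw [hS', Sylow.coe_subtype, subgroupOf_map_subtype, inf_eq_left.2 hSH]
    have hJmap : (Cfsg.thompsonSubgroupOf 2 (S' : Subgroup ↥H)).map H.subtype = J := by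
      rw [Lib.FPF.thompsonSubgroupOf_map _ H.subtype_injective.injOn, hS'map]
    have hVel' : Cfsg.IsElementaryAbelian 2 (V.subgroupOf H) :=
      ⟨⟨⟨fun a b => Subtype.ext (Subtype.ext (Lib.Thompson.commute_of_elementary hVel a.2 b.2))⟩⟩,
        fun a ha => Subtype.ext (by simpa using hVel.2 _ ha)⟩
    have hnorm : ∀ x : ↥H, (x : G) ∈ K → x ∈ normalizer (V.subgroupOf H : Set ↥H) := fun x hx =>
      mem_normalizer_iff.2 fun y => mem_normalizer_iff.1 hx y
    have h := normal_of_bound hsol hchar hS4 S' hVel'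
      (fun x hx => hnorm x (hSK hx)) (pBound_subgroupOf hVH hVel hKS4 hKsol hO)
      (fun x hx => mem_centralizer_iff.2 fun y hy => Subtype.ext
        (mem_centralizer_iff.1 (hJV (hJmap ▸ mem_map_of_mem H.subtype hx)) y hy))
      (fun x hx => hnorm x (hBV (by
        rw [hB]
        refine mem_normalizer_fintype fun y hy => ?_
        rw [← hJmap] at hy ⊢
        obtain ⟨z, hz, rfl⟩ := hy
        exact ⟨x * z * x⁻¹, (mem_normalizer_iff.1 hx z).1 hz, rfl⟩)))
      (fun L hSL hL x hx => hnorm x (by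
        have hlt : L.map H.subtype < H := lt_of_le_of_ne (map_subtype_le _) fun e => hL (by
          rw [← comap_map_eq_self_of_injective H.subtype_injective L, e]
          exact subgroupOf_self H)
        exact ih _ hlt (hS'map ▸ map_mono hSL) ((map_subtype_le _).trans hHC) (mem_map_of_mem _ hx)))
    intro x hx
    refine mem_normalizer_fintype fun y hy => ?_
    exact (mem_normalizer_iff.1 (h.ge (mem_top (⟨x, hx⟩ : ↥H))) ⟨y, hVH hy⟩).1 hy
  refine ⟨K, hKloc, hSK, fun L hL hSL => ?_⟩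
  obtain ⟨hLsol, hLchar, hLS4⟩ := hloc L hL
  have hLO : Cfsg.pPrimeCore 2 ↥L = ⊥ := by
    haveI : (Cfsg.pPrimeCore 2 ↥L).Normal := Lib.Hall.pPrimeCore_normal 2
    haveI : (Cfsg.pCore 2 ↥L).Normal := Lib.Hall.pCore_normal _
    have hcop : (Nat.card (Cfsg.pPrimeCore 2 ↥L)).Coprime (Nat.card (Cfsg.pCore 2 ↥L)) := by
      obtain ⟨k, hk⟩ := IsPGroup.iff_card.mp (Lib.Hall.isPGroup_pCore (G := ↥L) 2)
      rw [hk]; exact Nat.Coprime.pow_right k (Nat.coprime_two_right.2 (Nat.coprime_two_right.1 (Lib.Hall.coprime_card_pPrimeCore 2)))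
    have hdisj := Lib.Coprime.inf_eq_bot_of_coprime hcop
    have hc : Cfsg.pPrimeCore 2 ↥L ≤ centralizer (Cfsg.pCore 2 ↥L : Set ↥L) := fun x hx =>
      mem_centralizer_iff.2 fun q hq => (commute_of_normal_of_disjoint _ _ inferInstance inferInstance
        (disjoint_iff.2 hdisj) x q hx hq).eq.symm
    rw [← hdisj, eq_comm, inf_eq_left]
    exact hc.trans hLchar
  set S' : Sylow 2 ↥L := S.subtype hSL with hS'
  have hS'map : (S' : Subgroup ↥L).map L.subtype = (S : Subgroup G) := by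
    rw [hS', Sylow.coe_subtype, subgroupOf_map_subtype, inf_eq_left.2 hSL]
  have hΩmap : (Cfsg.omegaOne 2 ((S' : Subgroup ↥L) ⊓ centralizer ((S' : Subgroup ↥L) : Set ↥L))).map L.subtype = Ω := by
    rw [map_omegaOne _ L.subtype_injective, map_inf_centralizer _ L.subtype_injective, hS'map]
  have hJmap : (Cfsg.thompsonSubgroupOf 2 (S' : Subgroup ↥L)).map L.subtype = J := by
    rw [Lib.FPF.thompsonSubgroupOf_map _ L.subtype_injective.injOn, hS'map]
  intro g hg
  obtain ⟨x, hx, c, hc, n, hn, e⟩ := S2010.factorizable hLsol hLS4 hLO S' ⟨g, hg⟩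
  rw [hLO, mem_bot] at hx
  rw [hx, one_mul] at e
  have e' : g = (c : G) * n := congrArg Subtype.val e
  rw [e']
  refine mul_mem (hC _ ?_ le_rfl ?_) (hBV ?_)
  · rw [le_centralizer_iff, hΩ, Cfsg.omegaOne, closure_le]
    exact fun x hx => hx.1.2
  · refine mem_centralizer_iff.2 fun y hy => ?_
    rw [← hΩmap] at hy
    obtain ⟨z, hz, rfl⟩ := hy
    exact congrArg Subtype.val (mem_centralizer_iff.1 hc z hz)
  · rw [hB]
    refine mem_normalizer_fintype fun y hy => ?_
    rw [← hJmap] at hy ⊢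
    obtain ⟨z, hz, rfl⟩ := hy
    exact ⟨n * z * n⁻¹, (mem_normalizer_iff.1 hn z).1 hz, rfl⟩

/-- Two Sylow subgroups with nontrivial intersection have the same maximal two-local, and two-locals lie there. -/
theorem exists_local_map (hloc : GoodLocals G) (heven : Even (Nat.card G)) :
    ∃ F : Sylow 2 G → Subgroup G, (∀ S, Cfsg.IsTwoLocal (F S) ∧ ((S : Subgroup G) ≤ F S) ∧
        ∀ L : Subgroup G, Cfsg.IsTwoLocal L → (S : Subgroup G) ≤ L → L ≤ F S) ∧
      (∀ S S' : Sylow 2 G, (S : Subgroup G) ⊓ (S' : Subgroup G) ≠ ⊥ → F S = F S') ∧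
      ∀ (T R : Subgroup G) (S : Sylow 2 G), IsPGroup 2 T → T ≠ ⊥ → IsPGroup 2 R →
        R ≤ normalizer (T : Set G) → R ≤ (S : Subgroup G) →
        (∀ U : Subgroup G, IsPGroup 2 U → R ≤ U → U ≤ normalizer (T : Set G) → U = R) →
        normalizer (T : Set G) ≤ F S := by
  classical
  haveI : Fact (Nat.Prime 2) := ⟨Nat.prime_two⟩
  have hne : ∀ S : Sylow 2 G, (S : Subgroup G) ≠ ⊥ := fun S e => by
    have h := S.not_dvd_index
    rw [e, index_bot] at h
    exact h heven.two_dvd
  choose F hF using fun S : Sylow 2 G => exists_unique_local hloc S (hne S)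
  -- the two statements for subgroups of order above a bound
  let Loc : ℕ → Prop := fun k => ∀ (T R : Subgroup G) (S : Sylow 2 G), IsPGroup 2 T → T ≠ ⊥ → IsPGroup 2 R →
        R ≤ normalizer (T : Set G) → R ≤ (S : Subgroup G) →
        (∀ U : Subgroup G, IsPGroup 2 U → R ≤ U → U ≤ normalizer (T : Set G) → U = R) →
        k < Nat.card R → normalizer (T : Set G) ≤ F S
  have hconj : ∀ (S : Sylow 2 G) (n : G), n ∈ F S → ∀ S' : Sylow 2 G,
      (S' : Subgroup G) = (S : Subgroup G).map (MulAut.conj n).toMonoidHom → F S' = F S := by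
    intro S n hn S' hS'
    have h1 : (S' : Subgroup G) ≤ F S := by
      rw [hS']
      rintro _ ⟨s, hs, rfl⟩
      exact mul_mem (mul_mem hn ((hF S).2.1 hs)) (inv_mem hn)
    have hle : F S ≤ F S' := (hF S').2.2 _ (hF S).1 h1
    have h2 : (S : Subgroup G) ≤ F S' := by
      intro s hs
      have hn' := hle hn
      have h3 : n * s * n⁻¹ ∈ F S' := (hF S').2.1 (hS' ▸ ⟨s, hs, rfl⟩)
      simpa [mul_assoc] using mul_mem (mul_mem (inv_mem hn') h3) hn'
    exact le_antisymm ((hF S).2.2 _ (hF S').1 h2) hle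
  -- equality for large intersections follows from the containment for large subgroups
  have hU : ∀ k, Loc (k + 1) → ∀ S S' : Sylow 2 G,
      k < Nat.card ↥((S : Subgroup G) ⊓ (S' : Subgroup G)) → 1 < Nat.card ↥((S : Subgroup G) ⊓ (S' : Subgroup G)) →
        F S = F S' := by
    intro k hk
    suffices h : ∀ m, ∀ S S' : Sylow 2 G, Nat.card G ≤ m + Nat.card ↥((S : Subgroup G) ⊓ (S' : Subgroup G)) →
        k < Nat.card ↥((S : Subgroup G) ⊓ (S' : Subgroup G)) → 1 < Nat.card ↥((S : Subgroup G) ⊓ (S' : Subgroup G)) →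
          F S = F S' from fun S S' => h _ S S' (Nat.le_add_right _ _)
    intro m
    induction m using Nat.strong_induction_on with
    | _ m ih =>
    intro S S' hm hkD h1D
    set D := (S : Subgroup G) ⊓ (S' : Subgroup G) with hD
    by_cases hDS : (S : Subgroup G) ≤ D
    · have : S = S' := Sylow.ext (S.3 S'.2 (hDS.trans inf_le_right)).symm
      rw [this]
    have hDS' : ¬ (S' : Subgroup G) ≤ D := fun h => hDS (by
      have h1 := S'.3 S.2 (h.trans inf_le_left)
      rw [hD, h1, inf_idem])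
    have hgrow : ∀ P : Sylow 2 G, D ≤ (P : Subgroup G) → ¬ (P : Subgroup G) ≤ D →
        Nat.card D < Nat.card ↥((P : Subgroup G) ⊓ normalizer (D : Set G)) := by
      intro P hDP hPD
      refine lt_of_le_of_ne (card_le_of_le (le_inf hDP le_normalizer)) fun e => ?_
      have h := eq_of_le_of_card_ge (le_inf hDP le_normalizer) e.ge
      exact hPD (Lib.QuadPair.le_of_normalizer_inf_le P.isPGroup' hDP h.ge)
    have hlt1 := hgrow S inf_le_left hDS
    have hlt2 := hgrow S' inf_le_right hDS'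
    have hDne : D ≠ ⊥ := fun e => by rw [e, card_bot] at h1D; omega
    have hDp : IsPGroup 2 D := S.isPGroup'.to_le inf_le_left
    set N := normalizer (D : Set G) with hN
    obtain ⟨R1, hR1⟩ := ((S.isPGroup'.to_le (inf_le_left : (S : Subgroup G) ⊓ N ≤ S)).comap_subtype (K := N)).exists_le_sylow
    obtain ⟨R2, hR2⟩ := ((S'.isPGroup'.to_le (inf_le_left : (S' : Subgroup G) ⊓ N ≤ S')).comap_subtype (K := N)).exists_le_sylow
    obtain ⟨n, rfl⟩ := MulAction.exists_smul_eq ↥N R1 R2
    have hR1le : (S : Subgroup G) ⊓ N ≤ (R1 : Subgroup ↥N).map N.subtype := fun x hx =>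
      ⟨⟨x, hx.2⟩, hR1 hx, rfl⟩
    obtain ⟨S3, hS3⟩ := (R1.isPGroup'.map N.subtype).exists_le_sylow
    have hN3 : N ≤ F S3 := by
      refine hk D _ S3 hDp hDne (R1.isPGroup'.map N.subtype) (map_subtype_le _) hS3 (fun U hU hRU hUN => ?_)
        (lt_of_lt_of_le (Nat.lt_of_le_of_lt hkD hlt1) (card_le_of_le hR1le))
      have h := R1.3 (hU.comap_subtype (K := N)) (fun x hx => hRU ⟨x, hx, rfl⟩)
      exact (map_comap_eq_self (show U ≤ N.subtype.range by rwa [range_subtype])).symm.trans (congrArg _ h)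
    have hDle : Nat.card D < Nat.card ↥((S : Subgroup G) ⊓ (S3 : Subgroup G)) :=
      lt_of_lt_of_le hlt1 (card_le_of_le (le_inf inf_le_left (hR1le.trans hS3)))
    have e1 : F S = F S3 := ih (m - 1) (by have := Nat.card_le_card_of_injective _ ((S : Subgroup G) ⊓ (S3 : Subgroup G)).subtype_injective; omega)
      S S3 (by omega) (by omega) (by omega)
    set S4 : Sylow 2 G := (n : G) • S3 with hS4
    have hS4e : (S4 : Subgroup G) = (S3 : Subgroup G).map (MulAut.conj (n : G)).toMonoidHom := rfl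
    have hR2le : (S' : Subgroup G) ⊓ N ≤ (S4 : Subgroup G) := by
      intro x hx
      have h := hR2 (show (⟨x, hx.2⟩ : ↥N) ∈ ((S' : Subgroup G) ⊓ N).comap N.subtype from hx)
      rw [Sylow.coe_subgroup_smul, mem_pointwise_smul_iff_inv_smul_mem] at h
      rw [hS4e]
      refine ⟨((n⁻¹ * ⟨x, hx.2⟩ * n : ↥N) : G), hS3 ⟨_, (by simpa [MulAut.smul_def] using h : n⁻¹ * ⟨x, hx.2⟩ * n ∈ (R1 : Subgroup ↥N)), rfl⟩, ?_⟩
      simp [MulAut.conj_apply, mul_assoc]
    have hDle2 : Nat.card D < Nat.card ↥((S' : Subgroup G) ⊓ (S4 : Subgroup G)) :=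
      lt_of_lt_of_le hlt2 (card_le_of_le (le_inf inf_le_left hR2le))
    have e2 : F S' = F S4 := ih (m - 1) (by have := Nat.card_le_card_of_injective _ ((S' : Subgroup G) ⊓ (S4 : Subgroup G)).subtype_injective; omega)
      S' S4 (by omega) (by omega) (by omega)
    rw [e1, e2, hconj S3 n (hN3 n.2) S4 hS4e]
  -- containment for large subgroups
  have hLoc : ∀ m, ∀ k, Nat.card G ≤ m + k → Loc k := by
    intro m
    induction m with
    | zero =>
      intro k hk T R S _ _ _ _ _ _ hlt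
      have := Nat.card_le_card_of_injective _ R.subtype_injective
      omega
    | succ m ih =>
      intro k hk T R S hT hTne hR hRN hRS hmax hlt
      rcases Nat.lt_or_ge (k + 1) (Nat.card R) with h | h
      · exact ih (k + 1) (by omega) T R S hT hTne hR hRN hRS hmax h
      by_cases hSR : (S : Subgroup G) ≤ R
      · exact (hF S).2.2 _ ⟨T, hT, hTne, rfl⟩ (hSR.trans hRN)
      set L := normalizer (T : Set G) with hL
      have hLloc : Cfsg.IsTwoLocal L := ⟨T, hT, hTne, rfl⟩
      obtain ⟨hLsol, hLchar, hLS4⟩ := hloc L hLloc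
      have hTR : T ≤ R := by
        have h1 := hmax (T ⊔ R) (hT.to_sup_of_normal_left' hR hRN) le_sup_right (sup_le le_normalizer hRN)
        exact h1 ▸ le_sup_left
      have hRne : R ≠ ⊥ := fun e => hTne (le_bot_iff.1 (e ▸ hTR))
      have hlt' : Nat.card R < Nat.card ↥((S : Subgroup G) ⊓ normalizer (R : Set G)) := by
        refine lt_of_le_of_ne (card_le_of_le (le_inf hRS le_normalizer)) fun e => ?_
        exact hSR (Lib.QuadPair.le_of_normalizer_inf_le S.isPGroup' hRS
          (eq_of_le_of_card_ge (le_inf hRS le_normalizer) e.ge).ge)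
      have hchar : ∀ W : Subgroup G, W ≤ R → W ≠ ⊥ → normalizer (R : Set G) ≤ normalizer (W : Set G) →
          normalizer (W : Set G) ≤ F S := by
        intro W hWR hWne hnW
        set NW := normalizer (W : Set G) with hNW
        obtain ⟨R', hR'⟩ := ((S.isPGroup'.to_le (inf_le_left : (S : Subgroup G) ⊓ normalizer (R : Set G) ≤ S)).comap_subtype
          (K := NW)).exists_le_sylow
        have hle : (S : Subgroup G) ⊓ normalizer (R : Set G) ≤ (R' : Subgroup ↥NW).map NW.subtype := fun x hx =>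
          ⟨⟨x, hnW hx.2⟩, hR' hx, rfl⟩
        obtain ⟨S', hS'⟩ := (R'.isPGroup'.map NW.subtype).exists_le_sylow
        have hcard := card_le_of_le hle
        have h1 : NW ≤ F S' := ih (k + 1) (by omega) W _ S' (hR.to_le hWR) hWne (R'.isPGroup'.map NW.subtype)
          (map_subtype_le _) hS' (fun U hU hRU hUN => by
            have h := R'.3 (hU.comap_subtype (K := NW)) (fun x hx => hRU ⟨x, hx, rfl⟩)
            exact (map_comap_eq_self (show U ≤ NW.subtype.range by rwa [range_subtype])).symm.trans (congrArg _ h))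
          (by omega)
        have h2 : Nat.card R < Nat.card ↥((S : Subgroup G) ⊓ (S' : Subgroup G)) :=
          lt_of_lt_of_le hlt' (card_le_of_le (le_inf inf_le_left (hle.trans hS')))
        have hRp : 0 < Nat.card R := Nat.card_pos
        rw [hU k (ih (k + 1) (by omega)) S S' (by omega) (by omega)]
        exact h1
      have hLO : Cfsg.pPrimeCore 2 ↥L = ⊥ := by
        haveI : (Cfsg.pPrimeCore 2 ↥L).Normal := Lib.Hall.pPrimeCore_normal 2
        haveI : (Cfsg.pCore 2 ↥L).Normal := Lib.Hall.pCore_normal _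
        have hcop : (Nat.card (Cfsg.pPrimeCore 2 ↥L)).Coprime (Nat.card (Cfsg.pCore 2 ↥L)) := by
          obtain ⟨k, hk⟩ := IsPGroup.iff_card.mp (Lib.Hall.isPGroup_pCore (G := ↥L) 2)
          rw [hk]; exact Nat.Coprime.pow_right k (Lib.Hall.coprime_card_pPrimeCore 2)
        have hdisj := Lib.Coprime.inf_eq_bot_of_coprime hcop
        have hc : Cfsg.pPrimeCore 2 ↥L ≤ centralizer (Cfsg.pCore 2 ↥L : Set ↥L) := fun x hx =>
          mem_centralizer_iff.2 fun q hq => (commute_of_normal_of_disjoint _ _ inferInstance inferInstance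
            (disjoint_iff.2 hdisj) x q hx hq).eq.symm
        rw [← hdisj, eq_comm, inf_eq_left]
        exact hc.trans hLchar
      let RL : Sylow 2 ↥L :=
        { toSubgroup := R.subgroupOf L
          isPGroup' := hR.comap_subtype
          is_maximal' := fun {U} hU hle => by
            have h1 := hmax (U.map L.subtype) (hU.map _) (fun x hx => ⟨⟨x, hRN hx⟩, hle hx, rfl⟩) (map_subtype_le _)
            rw [← h1]; exact (comap_map_eq_self_of_injective L.subtype_injective U).symm }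
      have hRmap : (RL : Subgroup ↥L).map L.subtype = R := by
        show (R.subgroupOf L).map L.subtype = R
        rw [subgroupOf_map_subtype, inf_eq_left.2 hRN]
      set ΩR := Cfsg.omegaOne 2 (R ⊓ centralizer (R : Set G)) with hΩR
      set JR := Cfsg.thompsonSubgroupOf 2 R with hJR
      have hΩmap : (Cfsg.omegaOne 2 ((RL : Subgroup ↥L) ⊓ centralizer ((RL : Subgroup ↥L) : Set ↥L))).map L.subtype = ΩR := by
        rw [map_omegaOne _ L.subtype_injective, map_inf_centralizer _ L.subtype_injective, hRmap]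
      have hJmap : (Cfsg.thompsonSubgroupOf 2 (RL : Subgroup ↥L)).map L.subtype = JR := by
        rw [Lib.FPF.thompsonSubgroupOf_map _ L.subtype_injective.injOn, hRmap]
      have hΩne : ΩR ≠ ⊥ := by
        haveI : Nontrivial R := (nontrivial_iff_ne_bot _).2 hRne
        haveI := hR.center_nontrivial
        obtain ⟨k', hk0, hk'⟩ := (hR.to_subgroup (center R)).nontrivial_iff_card.1 inferInstance
        obtain ⟨z, hz⟩ := exists_prime_orderOf_dvd_card' (G := center R) 2 (by rw [hk']; exact dvd_pow_self 2 hk0.ne')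
        intro e
        have hz1 : ((z : R) : G) = 1 := by
          refine mem_bot.1 (e ▸ subset_closure ⟨⟨(z : R).2, mem_centralizer_iff.2 fun s hs =>
            congrArg Subtype.val (mem_center_iff.1 z.2 ⟨s, hs⟩)⟩, ?_⟩)
          have h := congrArg (fun x : center R => ((x : R) : G)) ((congrArg (z ^ ·) hz.symm).trans (pow_orderOf_eq_one z))
          simpa using h
        have : z = 1 := Subtype.ext (Subtype.ext hz1)
        rw [this, orderOf_one] at hz; omega
      have hnΩ : normalizer (R : Set G) ≤ normalizer (ΩR : Set G) := by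
        intro g hg
        refine mem_normalizer_fintype fun x hx => ?_
        refine closure_induction (p := fun x _ => g * x * g⁻¹ ∈ ΩR) ?_ ?_ ?_ ?_ hx
        · intro y hy
          refine subset_closure ⟨⟨(mem_normalizer_iff.1 hg y).1 hy.1.1, mem_centralizer_iff.2 fun r hr => ?_⟩,
            by rw [conj_pow, hy.2, mul_one, mul_inv_cancel]⟩
          have hr' : g⁻¹ * r * g ∈ R := by simpa using (mem_normalizer_iff.1 (inv_mem hg) r).1 hr
          have h := mem_centralizer_iff.1 hy.1.2 _ hr'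
          calc r * (g * y * g⁻¹) = g * ((g⁻¹ * r * g) * y) * g⁻¹ := by group
            _ = g * (y * (g⁻¹ * r * g)) * g⁻¹ := by rw [h]
            _ = g * y * g⁻¹ * r := by group
        · simp
        · intro p q _ _ hp hq
          rw [show g * (p * q) * g⁻¹ = (g * p * g⁻¹) * (g * q * g⁻¹) by group]; exact mul_mem hp hq
        · intro p _ hp
          rw [show g * p⁻¹ * g⁻¹ = (g * p * g⁻¹)⁻¹ by group]; exact inv_mem hp
      have hA := hchar ΩR ((closure_le _).2 fun x hx => hx.1.1) hΩne hnΩ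
      have hB := hchar JR (map_subtype_le _) (Lib.FPF.thompsonSubgroupOf_ne_bot hR hRne)
        (Lib.FPF.normalizer_le_normalizer_thompson _)
      intro g hg
      obtain ⟨x, hx, c, hc, n, hn, e⟩ := S2010.factorizable hLsol hLS4 hLO RL ⟨g, hg⟩
      rw [hLO, mem_bot] at hx
      rw [hx, one_mul] at e
      have e' : g = (c : G) * n := congrArg Subtype.val e
      rw [e']
      refine mul_mem (hA (centralizer_le_normalizer _ ?_)) (hB ?_)
      · refine mem_centralizer_iff.2 fun y hy => ?_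
        rw [← hΩmap] at hy
        obtain ⟨z, hz, rfl⟩ := hy
        exact congrArg Subtype.val (mem_centralizer_iff.1 hc z hz)
      · refine mem_normalizer_fintype fun y hy => ?_
        rw [← hJmap] at hy ⊢
        obtain ⟨z, hz, rfl⟩ := hy
        exact ⟨n * z * n⁻¹, (mem_normalizer_iff.1 hn z).1 hz, rfl⟩
  refine ⟨F, hF, ?_, ?_⟩
  · intro S S' hne'
    exact hU 0 (hLoc _ 1 (Nat.le_add_right _ _)) S S' Nat.card_pos ((one_lt_card_iff_ne_bot _).2 hne')
  · intro T R S hT hTne hR hRN hRS hmax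
    exact hLoc _ 0 (Nat.le_add_right _ _) T R S hT hTne hR hRN hRS hmax Nat.card_pos

end Cfsg.Agent.Lib.QuadPair
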